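import Cfsg.Agent.H83.GI.FourSetup
import Cfsg.Agent.H1.Cores
import Mathlib.GroupTheory.Transfer

/-!
A Sylow 2-subgroup of U₃(4) type (helper83): no normal subgroup meets `P` in its involutions when
the cores are trivial.
-/

set_option autoImplicit false
set_option linter.unusedSectionVars false
set_option linter.style.haveILetI false

namespace H83.GI

open Subgroup
open scoped commutatorElement

universe u

variable {G : Type u} [Group G] [Finite G]

namespace U34

variable {P : Sylow 2 G} {h : G} (S : U34 P h)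
include S

theorem false_of_normal (hcore : Cfsg.pPrimeCore 2 G = ⊥) (hop : Cfsg.pCore 2 G = ⊥)
    (N : Subgroup G) [N.Normal] (hN : ∀ x ∈ P, (x ∈ N ↔ x ∈ S.omega)) : False := by
  haveI : Fact (Nat.Prime 2) := ⟨Nat.prime_two⟩
  have hAN : S.omega ≤ N := fun x hx => (hN x hx.1).2 hx
  have hA2 : IsPGroup 2 S.omega := P.2.to_le S.omega_le
  set A' := S.omega.subgroupOf N
  have hA'card : Nat.card A' = 4 := by
    rw [Nat.card_congr (subgroupOfEquivOfLe hAN).toEquiv, S.card_omega]
  set Q : Sylow 2 N :=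
    { toSubgroup := A'
      isPGroup' := IsPGroup.of_card (n := 2) (by rw [hA'card]; norm_num)
      is_maximal' := fun {R} hR hle => by
        refine (eq_of_le_of_card_ge hle ?_).symm
        obtain ⟨P', hP'⟩ := (hR.map N.subtype).exists_le_sylow
        obtain ⟨g, hg⟩ := MulAction.exists_smul_eq G P' P
        have hmem : ∀ r : R, g * ((r : N) : G) * g⁻¹ ∈ S.omega := fun r => by
          have h1 : g * ((r : N) : G) * g⁻¹ ∈ P := by
            rw [← hg]
            exact smul_mem_pointwise_smul _ (MulAut.conj g) _ (hP' ⟨(r : N), r.2, rfl⟩)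
          exact (hN _ h1).1 (Normal.conj_mem inferInstance _ (r : N).2 g)
        calc Nat.card R ≤ Nat.card S.omega :=
              Nat.card_le_card_of_injective (fun r : R => (⟨_, hmem r⟩ : S.omega)) fun r r' e =>
                Subtype.ext (Subtype.ext (mul_left_cancel (mul_right_cancel (congrArg Subtype.val e))))
          _ = Nat.card A' := by rw [hA'card, S.card_omega] } with hQdef
  have hQcard : Nat.card (Q : Subgroup N) = 4 := hA'card
  by_cases hcen : normalizer ((Q : Subgroup N) : Set N) ≤ centralizer ((Q : Subgroup N) : Set N)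
  · have hc := MonoidHom.ker_transferSylow_isComplement' Q hcen
    set K := (MonoidHom.transferSylow Q hcen).ker
    have hKodd : (Nat.card K).Coprime 2 := by
      rw [← hc.index_eq_card, Nat.coprime_two_right, Nat.odd_iff, ← Nat.two_dvd_ne_zero]
      exact Q.not_dvd_index
    haveI := H1.pPrimeCore_characteristic 2 N
    have hle : K ≤ Cfsg.pPrimeCore 2 N := H1.le_pPrimeCore hKodd
    haveI := H1.map_subtype_normal_of_characteristic N (Cfsg.pPrimeCore 2 N)
    have hbot : (Cfsg.pPrimeCore 2 N).map N.subtype ≤ ⊥ := hcore ▸ H1.le_pPrimeCore (by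
      rw [Subgroup.card_map_of_injective N.subtype_injective]
      exact H1.card_pPrimeCore_coprime 2 N)
    have hK : K = ⊥ := le_bot_iff.1 (hle.trans (by
      rw [← (Subgroup.map_eq_bot_iff_of_injective _ N.subtype_injective).1 (le_bot_iff.1 hbot)]))
    rw [hK] at hc
    have htop := isComplement'_bot_left.1 hc
    have hNA : N = S.omega := le_antisymm (fun x hx => by
      have hm : (⟨x, hx⟩ : N) ∈ A' := by
        show (⟨x, hx⟩ : N) ∈ (Q : Subgroup N)
        rw [htop]
        exact mem_top _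
      exact hm) hAN
    have hbot' : N ≤ ⊥ := hop ▸ H1.le_pCore (hNA ▸ hA2)
    have h4 := S.card_omega
    rw [← hNA, le_bot_iff.1 hbot', card_bot] at h4
    omega
  obtain ⟨n, hn, hnc⟩ := SetLike.not_le_iff_exists.1 hcen
  obtain ⟨a', ha', hne⟩ : ∃ a' ∈ A', n * a' * n⁻¹ ≠ a' := by
    by_contra hcon
    push Not at hcon
    exact hnc (mem_centralizer_iff.2 fun a' ha' => (mul_inv_eq_iff_eq_mul.1 (hcon a' ha')).symm)
  set a : G := (a' : G)
  have ha : a ∈ S.omega := ha'
  have hna : (n : G) * a * (n : G)⁻¹ ∈ S.omega := (mem_set_normalizer_iff.1 hn a').1 ha'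
  have ha1 : a ≠ 1 := fun e => hne (by rw [show a' = 1 from Subtype.ext e]; group)
  obtain ⟨v, hv, hv2⟩ := S.exists_sq ha
  set C := centralizer ({a} : Set G) with hC
  obtain ⟨φ, hφ, -⟩ : ∃ φ : ↥C →* ↥(P : Subgroup G),
      (∀ x : ↥C, ∀ hx : (x : G) ∈ P, φ x = ⟨x, hx⟩) ∧ Odd (Nat.card φ.ker) :=
    S.exists_proj ha ha1
  set z : G := (n : G) * v * (n : G)⁻¹ with hz
  have hninv : (n : G)⁻¹ * a * (n : G) ∈ S.omega := by
    have := (mem_set_normalizer_iff.1 (inv_mem hn) a').1 ha'
    rw [inv_inv] at this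
    exact this
  have hzC : z ∈ C := by
    rw [hC, mem_centralizer_singleton_iff, hz]
    calc (n : G) * v * (n : G)⁻¹ * a = (n : G) * (v * ((n : G)⁻¹ * a * n)) * (n : G)⁻¹ := by group
      _ = (n : G) * ((n : G)⁻¹ * a * n * v) * (n : G)⁻¹ := by rw [S.comm_omega hninv hv]
      _ = a * ((n : G) * v * (n : G)⁻¹) := by group
  set H := (N.subgroupOf C).map φ
  have hH4 : Nat.card H ∣ 4 := by
    obtain ⟨j, hj⟩ := (P.2.to_subgroup H).exists_card_eq
    have h1 : Nat.card H ∣ Nat.card N := by
      refine (Subgroup.card_map_dvd (N.subgroupOf C) φ).trans ?_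
      exact (Subgroup.card_dvd_of_injective ((C.subtype.comp (N.subgroupOf C).subtype).codRestrict N
        fun x => x.2) fun x y e => Subtype.ext (Subtype.ext (congrArg (fun t => (t : N).1) e)))
    rw [← (Q : Subgroup N).card_mul_index, hQcard] at h1
    have hcop : Nat.Coprime (Nat.card H) (Q : Subgroup N).index := by
      rw [hj]
      exact ((Nat.Prime.coprime_iff_not_dvd Nat.prime_two).2 Q.not_dvd_index).pow_left _
    exact hcop.dvd_of_dvd_mul_right h1
  have hHA : H = S.omega.subgroupOf (P : Subgroup G) := by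
    have hle : S.omega.subgroupOf (P : Subgroup G) ≤ H := fun x hx =>
      ⟨⟨(x : G), S.le_centralizer_omega ha x.2⟩, hAN hx, hφ _ x.2⟩
    refine (eq_of_le_of_card_ge hle ?_).symm
    rw [Nat.card_congr (subgroupOfEquivOfLe S.omega_le).toEquiv, S.card_omega]
    exact Nat.le_of_dvd (by norm_num) hH4
  set zC : C := ⟨z, hzC⟩
  set vC : C := ⟨v, S.le_centralizer_omega ha hv⟩
  have hw : φ (zC * vC⁻¹) ∈ S.omega.subgroupOf (P : Subgroup G) := hHA ▸ ⟨zC * vC⁻¹, by
    show z * v⁻¹ ∈ N
    rw [hz, mul_assoc, mul_assoc]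
    have := Normal.conj_mem inferInstance _ (inv_mem n.2) v (H := N)
    rw [← mul_assoc v]
    exact mul_mem n.2 this, rfl⟩
  rw [map_mul, map_inv, hφ vC hv] at hw
  set y : ↥(P : Subgroup G) := φ zC * (⟨v, hv⟩ : ↥(P : Subgroup G))⁻¹
  have hy : (y : G) ∈ S.omega := hw
  have hsq : ((φ zC : ↥(P : Subgroup G)) : G) * (φ zC : ↥(P : Subgroup G)) = a := by
    have e : ((φ zC : ↥(P : Subgroup G)) : G) = y * v := by
      simp only [y, Subgroup.coe_mul, Subgroup.coe_inv, inv_mul_cancel_right]
    rw [e, mul_assoc (y : G), ← mul_assoc v, ← S.comm_omega hy hv, mul_assoc (y : G),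
      ← mul_assoc (y : G), hy.2, one_mul, hv2]
  have hzz : ((φ (zC * zC) : ↥(P : Subgroup G)) : G) = (n : G) * a * (n : G)⁻¹ := by
    have hzzv : z * z = (n : G) * a * (n : G)⁻¹ := by rw [hz, conj_mul, hv2]
    have h2 := hφ (zC * zC) (show z * z ∈ P from hzzv ▸ hna.1)
    rw [h2]
    exact hzzv
  rw [map_mul, Subgroup.coe_mul, hsq] at hzz
  exact hne (Subtype.ext hzz.symm)

end U34

end H83.GI
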