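import Cfsg.Agent.H83.GI.FourVec
import Cfsg.Agent.H83.GI.FourEnd
import Cfsg.Agent.H85.BrauerSuzuki
import Cfsg.Agent.H20.HomocyclicNormal
import Cfsg.Agent.H29.ThreeInvolutions
import Cfsg.Agent.H22.ValueMod

/-!
No group with trivial cores has a non-elementary Sylow 2-subgroup with exactly three involutions,
all central in it, when the involution centralizers have normal 2-complements (helper83).
-/

set_option autoImplicit false
set_option linter.unusedSectionVars false
set_option linter.style.haveILetI false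

namespace H83.GI

open Subgroup
open scoped commutatorElement

universe u

variable {G : Type u} [Group G] [Finite G]

/-- A transitive element on three points contains a three-cycle. -/
theorem exists_shift {K : Subgroup G} {a b c : G}
    (hab : a ≠ b) (hac : a ≠ c) (hbc : b ≠ c)
    (hperm : ∀ n ∈ K, ∀ x : G, x = a ∨ x = b ∨ x = c →
      n * x * n⁻¹ = a ∨ n * x * n⁻¹ = b ∨ n * x * n⁻¹ = c)
    (hb : ∃ n ∈ K, n * a * n⁻¹ = b) (hc : ∃ n ∈ K, n * a * n⁻¹ = c) :
    ∃ k ∈ K, ∀ x : G, x = a ∨ x = b ∨ x = c → k * x * k⁻¹ ≠ x := by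
  have inj : ∀ (n x y : G), n * x * n⁻¹ = n * y * n⁻¹ → x = y := fun n x y e =>
    mul_left_cancel (mul_right_cancel e)
  obtain ⟨n, hn, hna⟩ := hb
  obtain ⟨m, hm, hma⟩ := hc
  have key : ∀ k ∈ K, k * a * k⁻¹ ≠ a → (∀ x, x = b ∨ x = c → k * x * k⁻¹ ≠ x) →
      ∃ k ∈ K, ∀ x : G, x = a ∨ x = b ∨ x = c → k * x * k⁻¹ ≠ x := fun k hk h1 h2 =>
    ⟨k, hk, fun x hx => hx.elim (fun e => e ▸ h1) (h2 x)⟩
  rcases hperm n hn b (Or.inr (Or.inl rfl)) with e | e | e
  · -- `n` fixes `c`
    have hnc : n * c * n⁻¹ = c := by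
      rcases hperm n hn c (Or.inr (Or.inr rfl)) with e' | e' | e'
      · exact absurd (inj n _ _ (e.trans e'.symm)) hbc
      · exact absurd (inj n _ _ (hna.trans e'.symm)) hac
      · exact e'
    rcases hperm m hm c (Or.inr (Or.inr rfl)) with f | f | f
    · have hmb : m * b * m⁻¹ = b := by
        rcases hperm m hm b (Or.inr (Or.inl rfl)) with e' | e' | e'
        · exact absurd (inj m _ _ (f.trans e'.symm)) hbc.symm
        · exact e'
        · exact absurd (inj m _ _ (hma.trans e'.symm)) hab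
      have hc' : ∀ x, n * m * x * (n * m)⁻¹ = n * (m * x * m⁻¹) * n⁻¹ := fun x => by group
      refine key (n * m) (mul_mem hn hm) ?_ ?_
      · rw [hc', hma, hnc]; exact hac.symm
      · rintro x (rfl | rfl)
        · rw [hc', hmb, e]; exact hab
        · rw [hc', f, hna]; exact hbc
    · refine key m hm (by rw [hma]; exact hac.symm) ?_
      rintro x (rfl | rfl)
      · rcases hperm m hm x (Or.inr (Or.inl rfl)) with e' | e' | e'
        · rw [e']; exact hab
        · exact absurd (inj m _ _ (f.trans e'.symm)) hbc.symm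
        · exact absurd (inj m _ _ (hma.trans e'.symm)) hab
      · rw [f]; exact hbc
    · exact absurd (inj m _ _ (hma.trans f.symm)) hac
  · exact absurd (inj n _ _ (hna.trans e.symm)) hab
  · refine key n hn (by rw [hna]; exact hab.symm) ?_
    rintro x (rfl | rfl)
    · rw [e]; exact hbc.symm
    · rcases hperm n hn x (Or.inr (Or.inr rfl)) with e' | e' | e'
      · rw [e']; exact hac
      · exact absurd (inj n _ _ (hna.trans e'.symm)) hac
      · exact absurd (inj n _ _ (e.trans e'.symm)) hbc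

/-- In a non-abelian 2-group with three involutions permuted transitively, squares and commutators
are involutions or trivial, and the order is 64. -/
theorem table_facts {T : Type*} [Group T] [Finite T] {a : Fin 4 → T} {z₁ z₂ : T}
    {Q : Fin 4 → Bool × Bool} {C : Fin 4 → Fin 4 → Bool × Bool}
    (h : Cfsg.Agent.H29.ThreeInv.Table a z₁ z₂ Q C)
    (hcen : ∀ x : T, x * x = 1 → ∀ y : T, x * y = y * x) :
    Nat.card T = 64 ∧ (∀ x : T, x * x * (x * x) = 1) ∧ ∀ x y : T, ⁅x, y⁆ * ⁅x, y⁆ = 1 := by
  let N : Subgroup T :=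
    { carrier := {x | x * x = 1}
      one_mem' := one_mul 1
      mul_mem' := fun {x y} hx hy => by
        show x * y * (x * y) = 1
        rw [mul_assoc, ← mul_assoc y, ← hcen x hx y, mul_assoc x y, hy, mul_one, hx]
      inv_mem' := fun {x} hx => by
        show x⁻¹ * x⁻¹ = 1
        rw [← mul_inv_rev, hx, inv_one] }
  haveI hNn : N.Normal := ⟨fun x hx g => by
    rw [← hcen x hx g, mul_inv_cancel_right]; exact hx⟩
  have hword : ∀ p, Cfsg.Agent.H29.ThreeInv.word z₁ z₂ p ∈ N := fun p => by
    unfold Cfsg.Agent.H29.ThreeInv.word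
    refine N.mul_mem ?_ ?_ <;> split_ifs
    exacts [h.z₁_sq, N.one_mem, h.z₂_sq, N.one_mem]
  set π := QuotientGroup.mk' N
  have hgen : ∀ H : Subgroup (T ⧸ N), (∀ i, π (a i) ∈ H) → ∀ x, π x ∈ H := fun H hH x => by
    have : Subgroup.closure (Set.range a ∪ {z₁, z₂}) ≤ H.comap π := by
      rw [Subgroup.closure_le]
      rintro y (⟨i, rfl⟩ | rfl | rfl)
      · exact hH i
      · show π y ∈ H
        rw [show π y = 1 from (QuotientGroup.eq_one_iff y).2 h.z₁_sq]
        exact one_mem H
      · show π y ∈ H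
        rw [show π y = 1 from (QuotientGroup.eq_one_iff y).2 h.z₂_sq]
        exact one_mem H
    rw [h.gen] at this
    exact this (Subgroup.mem_top x)
  have hcomm : ∀ x y, π x * π y = π y * π x := by
    have h1 : ∀ i y, π (a i) * π y = π y * π (a i) := fun i y => by
      refine (Subgroup.mem_centralizer_singleton_iff.1
        (hgen (Subgroup.centralizer {π (a i)}) (fun j => ?_) y)).symm
      rw [Subgroup.mem_centralizer_singleton_iff, ← commutatorElement_eq_one_iff_mul_comm,
        ← map_commutatorElement]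
      exact (QuotientGroup.eq_one_iff _).2 (by rw [h.comm]; exact hword _)
    intro x y
    refine Subgroup.mem_centralizer_singleton_iff.1
      (hgen (Subgroup.centralizer {π y}) (fun i => ?_) x)
    exact Subgroup.mem_centralizer_singleton_iff.2 (h1 i y)
  let Sq : Subgroup (T ⧸ N) :=
    { carrier := {q | q * q = 1}
      one_mem' := one_mul 1
      mul_mem' := fun {p q} hp hq => by
        obtain ⟨x, rfl⟩ := QuotientGroup.mk'_surjective N p
        obtain ⟨y, rfl⟩ := QuotientGroup.mk'_surjective N q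
        show π x * π y * (π x * π y) = 1
        rw [mul_assoc, ← mul_assoc (π y), hcomm y x, mul_assoc (π x) (π y),
          show π y * π y = 1 from hq, mul_one]
        exact hp
      inv_mem' := fun {p} hp => by
        show p⁻¹ * p⁻¹ = 1
        rw [← mul_inv_rev, hp, inv_one] }
  have hsq : ∀ x, π x ∈ Sq := hgen Sq fun i => by
    show π (a i) * π (a i) = 1
    rw [← map_mul, h.sq]
    exact (QuotientGroup.eq_one_iff _).2 (hword _)
  refine ⟨h.card, fun x => (QuotientGroup.eq_one_iff (x * x)).1 (hsq x), fun x y =>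
    (show ⁅x, y⁆ ∈ N from (QuotientGroup.eq_one_iff ⁅x, y⁆).1 ?_)⟩
  show π ⁅x, y⁆ = 1
  rw [map_commutatorElement, commutatorElement_eq_one_iff_mul_comm]
  exact hcomm x y

theorem zmod_two_add_self : ∀ z : ZMod (2 ^ 1) × ZMod (2 ^ 1), z + z = 0 := by decide

end H83.GI

namespace H61.GI

open Subgroup

universe u

/-- The case of exactly three involutions in a non-elementary Sylow 2-subgroup. -/
theorem four_false {G : Type u} [Group G] [Finite G] (hcore : Cfsg.pPrimeCore 2 G = ⊥)
    (P : Sylow 2 G) (hnn : ¬ (P : Subgroup G).Normal)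
    (hnil : ∀ x : G, orderOf x = 2 → Cfsg.HasNormalPComplement 2 ↥(centralizer ({x} : Set G)))
    (hcent : ∀ x ∈ P, x * x = 1 → ∀ y ∈ P, x * y = y * x)
    (hop : Cfsg.pCore 2 G = ⊥) (h3 : Nat.card {x : (P : Subgroup G) // x * x = 1} = 4)
    (hne : ∃ x ∈ P, x * x ≠ 1) : False := by
  classical
  haveI : Fact (Nat.Prime 2) := ⟨Nat.prime_two⟩
  have hord : ∀ x : G, x * x = 1 → x ≠ 1 → orderOf x = 2 := fun x hx hx1 =>
    orderOf_eq_prime (by rw [pow_two]; exact hx) hx1
  have hmemc : ∀ x ∈ P, x * x = 1 → x ∈ centralizer ((P : Subgroup G) : Set G) := fun x hx hx2 =>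
    mem_centralizer_iff.2 fun y hy => (hcent x hx hx2 y hy).symm
  -- no involution of `P` is fixed by its normalizer
  have hmoved : ∀ x ∈ P, x * x = 1 → x ≠ 1 →
      ∃ n ∈ normalizer ((P : Subgroup G) : Set G), n * x * n⁻¹ ≠ x := by
    intro x hx hx2 hx1
    by_contra hcon
    push Not at hcon
    have hiso : ∀ g : G, g * x * g⁻¹ ∈ P → g * x * g⁻¹ = x := by
      intro g hg
      have hg2 : g * x * g⁻¹ * (g * x * g⁻¹) = 1 := by
        rw [conj_mul, hx2, mul_one, mul_inv_cancel]
      obtain ⟨n, hn, e⟩ := P.conj_eq_normalizer_conj_of_mem_centralizer x g⁻¹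
        (hmemc x hx hx2) (by rw [inv_inv]; exact hmemc _ hg hg2)
      rw [inv_inv] at e
      rw [e]
      have := hcon n⁻¹ (inv_mem hn)
      rwa [inv_inv] at this
    have hz := H85.zStar (H85.isolated_of_sylow P (hord x hx2 hx1) hx hiso)
    have hcomm : ∀ g : G, x * g = g * x := fun g => by
      have := hz g
      rw [hcore, mem_bot, mul_inv_eq_one, mul_inv_eq_iff_eq_mul] at this
      exact this
    haveI : (zpowers x).Normal := ⟨fun y hy g => by
      obtain ⟨i, rfl⟩ := mem_zpowers_iff.1 hy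
      rw [((show Commute g x from (hcomm g).symm).zpow_right i).eq, mul_inv_cancel_right]
      exact zpow_mem_zpowers x i⟩
    have hle : zpowers x ≤ Cfsg.pCore 2 G := H1.le_pCore
      (IsPGroup.of_card (n := 1) (by rw [Nat.card_zpowers, hord x hx2 hx1, pow_one]))
    have hxb : x ∈ (⊥ : Subgroup G) := hop ▸ hle (mem_zpowers x)
    exact hx1 (mem_bot.1 hxb)
  -- the three involutions
  haveI := Fintype.ofFinite G
  set T : Finset G := Finset.univ.filter fun x => x ∈ P ∧ x * x = 1 with hT
  have hTc : T.card = 4 := by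
    rw [← h3, hT, ← Fintype.card_subtype, ← Nat.card_eq_fintype_card]
    exact Nat.card_congr
      { toFun := fun x => ⟨⟨x.1, x.2.1⟩, Subtype.ext x.2.2⟩
        invFun := fun x => ⟨x.1.1, x.1.2, congrArg Subtype.val x.2⟩
        left_inv := fun x => rfl
        right_inv := fun x => rfl }
  obtain ⟨a, b, c, hab, hac, hbc, hTe⟩ := Finset.card_eq_three.1
    (show (T.erase 1).card = 3 by
      rw [Finset.card_erase_of_mem (by simp [hT]), hTc])
  have hmem : ∀ x, (x = a ∨ x = b ∨ x = c) ↔ (x ∈ P ∧ x * x = 1 ∧ x ≠ 1) := fun x => by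
    have : x ∈ T.erase 1 ↔ (x = a ∨ x = b ∨ x = c) := by rw [hTe]; simp
    rw [← this]
    simp only [hT, Finset.mem_erase, Finset.mem_filter, Finset.mem_univ, true_and]
    tauto
  have hperm : ∀ n ∈ normalizer ((P : Subgroup G) : Set G), ∀ x : G, x = a ∨ x = b ∨ x = c →
      n * x * n⁻¹ = a ∨ n * x * n⁻¹ = b ∨ n * x * n⁻¹ = c := by
    intro n hn x hx
    obtain ⟨hxP, hx2, hx1⟩ := (hmem x).1 hx
    exact (hmem _).2 ⟨(mem_set_normalizer_iff.1 hn x).1 hxP,
      by rw [conj_mul, hx2, mul_one, mul_inv_cancel], fun e => hx1 (conj_eq_one_iff.1 e)⟩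
  have hinj : ∀ (n x y : G), n * x * n⁻¹ = n * y * n⁻¹ → x = y := fun n x y e =>
    mul_left_cancel (mul_right_cancel e)
  have move : ∀ x, (x = a ∨ x = b ∨ x = c) →
      ∃ n ∈ normalizer ((P : Subgroup G) : Set G), n * x * n⁻¹ ≠ x := fun x hx => by
    obtain ⟨h1, h2, h3'⟩ := (hmem x).1 hx
    exact hmoved x h1 h2 h3'
  have hcomp : ∀ m n x : G, m * n * x * (m * n)⁻¹ = m * (n * x * n⁻¹) * m⁻¹ := fun m n x => by group
  obtain ⟨na, hna, ea⟩ := move a (Or.inl rfl)
  have hboth : (∃ n ∈ normalizer ((P : Subgroup G) : Set G), n * a * n⁻¹ = b) ∧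
      ∃ n ∈ normalizer ((P : Subgroup G) : Set G), n * a * n⁻¹ = c := by
    rcases hperm na hna a (Or.inl rfl) with e | e | e
    · exact absurd e ea
    · refine ⟨⟨na, hna, e⟩, ?_⟩
      by_contra hno
      push Not at hno
      obtain ⟨nc, hnc, ec⟩ := move c (Or.inr (Or.inr rfl))
      rcases hperm nc hnc c (Or.inr (Or.inr rfl)) with e' | e' | e'
      · exact hno _ (inv_mem hnc) (by rw [← e']; group)
      · refine hno (nc⁻¹ * na) (mul_mem (inv_mem hnc) hna) ?_
        rw [hcomp, e, ← e']; group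
      · exact ec e'
    · refine ⟨?_, ⟨na, hna, e⟩⟩
      by_contra hno
      push Not at hno
      obtain ⟨nb, hnb, eb⟩ := move b (Or.inr (Or.inl rfl))
      rcases hperm nb hnb b (Or.inr (Or.inl rfl)) with e' | e' | e'
      · exact hno _ (inv_mem hnb) (by rw [← e']; group)
      · exact eb e'
      · refine hno (nb⁻¹ * na) (mul_mem (inv_mem hnb) hna) ?_
        rw [hcomp, e, ← e']; group
  obtain ⟨h, hh, hhmove⟩ := H83.GI.exists_shift hab hac hbc hperm hboth.1 hboth.2
  -- the automorphism of `P`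
  let φ : MulAut ↥(P : Subgroup G) :=
    { toFun := fun x => ⟨h * x * h⁻¹, (mem_set_normalizer_iff.1 hh x).1 x.2⟩
      invFun := fun x => ⟨h⁻¹ * x * h, by
        have := (mem_set_normalizer_iff.1 (inv_mem hh) x).1 x.2
        rwa [inv_inv] at this⟩
      left_inv := fun x => Subtype.ext (by group)
      right_inv := fun x => Subtype.ext (by group)
      map_mul' := fun x y => Subtype.ext (by simp only [Subgroup.coe_mul]; group) }
  have htrans : ∀ x y : ↥(P : Subgroup G), x ≠ 1 → x * x = 1 → y ≠ 1 → y * y = 1 →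
      ∃ j : ℕ, (φ ^ j) x = y := by
    intro x y hx1 hx2 hy1 hy2
    have hxm := (hmem (x : G)).2 ⟨x.2, by simpa using congrArg Subtype.val hx2,
      fun e => hx1 (Subtype.ext e)⟩
    have hym := (hmem (y : G)).2 ⟨y.2, by simpa using congrArg Subtype.val hy2,
      fun e => hy1 (Subtype.ext e)⟩
    set x₁ := h * (x : G) * h⁻¹ with hx₁
    set x₂ := h * x₁ * h⁻¹ with hx₂
    have m1 := hperm h hh _ hxm
    have m2 := hperm h hh _ m1
    have d01 : x₁ ≠ (x : G) := hhmove _ hxm
    have d12 : x₂ ≠ x₁ := hhmove _ m1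
    have hfin : ∀ z, z ∈ ({a, b, c} : Finset G) ↔ (z = a ∨ z = b ∨ z = c) := fun z => by simp
    have hc3 : ({a, b, c} : Finset G).card = 3 := by
      rw [Finset.card_insert_of_notMem (by simp [hab, hac]), Finset.card_pair hbc]
    have three : ∀ p q r : G, p ≠ q → p ≠ r → q ≠ r → (p = a ∨ p = b ∨ p = c) →
        (q = a ∨ q = b ∨ q = c) → (r = a ∨ r = b ∨ r = c) →
        ∀ z, (z = a ∨ z = b ∨ z = c) → z = p ∨ z = q ∨ z = r := by
      intro p q r h1 h2 h3' hp hq hr z hz
      have hsub : ({p, q, r} : Finset G) ⊆ {a, b, c} := by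
        intro v hv
        simp only [Finset.mem_insert, Finset.mem_singleton] at hv
        rcases hv with rfl | rfl | rfl
        exacts [(hfin _).2 hp, (hfin _).2 hq, (hfin _).2 hr]
      have heq := Finset.eq_of_subset_of_card_le hsub (by
        rw [hc3, Finset.card_insert_of_notMem (by simp [h1, h2]), Finset.card_pair h3'])
      have hz' := (hfin z).2 hz
      rw [← heq] at hz'
      simpa using hz'
    have d02 : x₂ ≠ (x : G) := by
      intro e
      obtain ⟨w, hw, hw'⟩ := Finset.exists_mem_notMem_of_card_lt_card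
        (s := ({(x : G), x₁} : Finset G)) (t := ({a, b, c} : Finset G))
        (by rw [hc3, Finset.card_pair d01.symm]; norm_num)
      simp only [Finset.mem_insert, Finset.mem_singleton, not_or] at hw'
      have hwm := (hfin w).1 hw
      rcases three (x : G) x₁ w d01.symm (Ne.symm hw'.1) (Ne.symm hw'.2) hxm m1 hwm _
          (hperm h hh w hwm) with s | s | s
      · exact hw'.2 (hinj h _ _ (s.trans (e.symm.trans hx₂)))
      · exact hw'.1 (hinj h _ _ (s.trans hx₁))
      · exact hhmove w hwm s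
    have hy : (y : G) = x ∨ (y : G) = x₁ ∨ (y : G) = x₂ :=
      three (x : G) x₁ x₂ d01.symm d02.symm d12.symm hxm m1 m2 y hym
    rcases hy with e | e | e
    · exact ⟨0, Subtype.ext e.symm⟩
    · exact ⟨1, Subtype.ext (by rw [pow_one, e]; rfl)⟩
    · exact ⟨2, Subtype.ext (by rw [pow_two, e]; rfl)⟩
  by_cases hab' : ∀ x y : ↥(P : Subgroup G), x * y = y * x
  · obtain ⟨m, hm, ⟨e⟩⟩ := Cfsg.Agent.H29.ThreeInv.homocyclic P.2 hab' h3 htrans
    have hm2 : 2 ≤ m := by
      by_contra hlt
      obtain rfl : m = 1 := by omega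
      obtain ⟨x, hx, hx2⟩ := hne
      refine hx2 (congrArg Subtype.val
        (e.injective (?_ : e (⟨x, hx⟩ * ⟨x, hx⟩) = e (1 : ↥(P : Subgroup G)))))
      rw [map_mul, map_one]
      apply Multiplicative.toAdd.injective
      rw [toAdd_mul, toAdd_one]
      exact H83.GI.zmod_two_add_self _
    exact hnn (H20.Homocyclic.brauer P hm2 e (fun N hN hodd => by
      haveI := hN
      have := H1.le_pPrimeCore (N := N) (Nat.coprime_two_right.2 hodd)
      rw [hcore] at this
      exact le_bot_iff.1 this)).1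
  push Not at hab'
  have hcen' : ∀ x : ↥(P : Subgroup G), x * x = 1 → ∀ y, x * y = y * x := fun x hx y =>
    Subtype.ext (hcent x x.2 (by simpa using congrArg Subtype.val hx) y y.2)
  obtain ⟨bt, z₁, z₂, htab⟩ := Cfsg.Agent.H29.ThreeInv.nonabelian_table P.2 hab' h3 φ
    fun s t hs ht => htrans s t
      (fun e => by rw [e, orderOf_one] at hs; exact absurd hs (by norm_num))
      (by have e := pow_orderOf_eq_one s; rw [hs, pow_two] at e; exact e)
      (fun e => by rw [e, orderOf_one] at ht; exact absurd ht (by norm_num))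
      (by have e := pow_orderOf_eq_one t; rw [ht, pow_two] at e; exact e)
  obtain ⟨hcard, hsq, hcm⟩ := H83.GI.table_facts htab hcen'
  have S : H83.GI.U34 P h :=
    { card := hcard
      four := h3
      cent := hcent
      sq := fun x hx => by simpa using congrArg Subtype.val (hsq ⟨x, hx⟩)
      comm := fun x hx y hy => by
        simpa [commutatorElement_def] using congrArg Subtype.val (hcm ⟨x, hx⟩ ⟨y, hy⟩)
      nilp := hnil
      norm := hh
      move := fun x hx hx2 hx1 => hhmove x ((hmem x).2 ⟨hx, hx2, hx1⟩) }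
  obtain ⟨M, hM⟩ := H22.exists_isPModular 2 Nat.prime_two
  haveI := hM.2.1.isPrime
  obtain ⟨N, hN, hNP⟩ := S.exists_normal hM
  haveI := hN
  exact S.false_of_normal hcore hop N hNP

end H61.GI
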