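import Cfsg.Agent.H83.GI.FourSetup
import Cfsg.Agent.H85.ZStarBlocks
import Cfsg.Agent.H11.ColumnsNormalizer
import Cfsg.Agent.H22.SectionOrth
import Cfsg.Agent.H20.BlockApps
import Cfsg.Agent.H20.Orth
import Cfsg.Agent.H12.Products

/-!
The principal 2-block for a Sylow subgroup of U₃(4) type (helper83): columns of the elements of
`P` and the equation from products of two involutions.
-/

set_option autoImplicit false
set_option linter.unusedSectionVars false
set_option linter.style.haveILetI false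

namespace H83.GI

open Cfsg Finset
open scoped ComplexConjugate commutatorElement

universe u

variable {G : Type u} [Group G] [Fintype G]

open scoped Classical in
/-- The column relation in counting form. -/
theorem column_count (g g' : G) :
    ∑ χ : IrrCharacter G, (χ : G → ℂ) g * conj ((χ : G → ℂ) g') =
      ((univ.filter fun k : G => k * g * k⁻¹ = g').card : ℂ) := by
  rw [H12.column_orthogonality]
  by_cases hc : IsConj g g'
  · rw [if_pos hc]
    obtain ⟨n, hn⟩ := isConj_iff.1 hc
    norm_cast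
    rw [← Fintype.card_subtype, ← Nat.card_eq_fintype_card]
    refine Nat.card_congr
      { toFun := fun c => ⟨n * (c : G), ?_⟩
        invFun := fun k => ⟨n⁻¹ * k.1, Subgroup.mem_centralizer_singleton_iff.2 ?_⟩
        left_inv := fun c => Subtype.ext (inv_mul_cancel_left _ _)
        right_inv := fun k => Subtype.ext (mul_inv_cancel_left _ _) }
    · rw [← hn]
      calc n * (c : G) * g * (n * (c : G))⁻¹ = n * ((c : G) * g) * (c : G)⁻¹ * n⁻¹ := by group
        _ = n * g * n⁻¹ := by rw [Subgroup.mem_centralizer_singleton_iff.1 c.2]; group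
    · calc n⁻¹ * k.1 * g = n⁻¹ * (k.1 * g * k.1⁻¹) * k.1 := by group
        _ = n⁻¹ * (n * g * n⁻¹) * k.1 := by rw [k.2, hn]
        _ = g * (n⁻¹ * k.1) := by group
  · rw [if_neg hc, eq_comm, Nat.cast_eq_zero, card_eq_zero, filter_eq_empty_iff]
    exact fun k _ hk => hc (isConj_iff.2 ⟨k, hk⟩)

namespace U34

variable {P : Sylow 2 G} {h : G} (S : U34 P h)
include S

theorem orderOf_two_pow {x : G} (hx : x ∈ P) : ∃ k : ℕ, orderOf x = 2 ^ k := by
  haveI : Fact (Nat.Prime 2) := ⟨Nat.prime_two⟩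
  obtain ⟨k, hk⟩ := IsPGroup.iff_orderOf.1 P.2 ⟨x, hx⟩
  exact ⟨k, by rwa [Subgroup.orderOf_mk] at hk⟩

theorem pow_four {x : G} (hx : x ∈ P) : x ^ 4 = 1 := by
  rw [pow_succ, pow_succ, pow_two, mul_assoc]; exact S.sq x hx

/-- Raising to the square of an odd exponent recovers the 2-part. -/
theorem pow_sq {x : G} (hx : x ∈ P) {K : Subgroup ↥(Subgroup.centralizer ({x} : Set G))}
    (hodd : Odd (Nat.card K)) {c : ↥(Subgroup.centralizer ({x} : Set G))} (hc : c ∈ K) :
    (x * (c : G)) ^ (Nat.card K * Nat.card K) = x := by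
  set n := Nat.card K with hn
  have hcn : (c : G) ^ n = 1 := by
    have := congrArg Subtype.val (pow_card_eq_one' (x := (⟨c, hc⟩ : K)))
    exact congrArg Subtype.val this
  rw [(show Commute x (c : G) from (Subgroup.mem_centralizer_singleton_iff.1 c.2).symm).mul_pow,
    pow_mul (c : G), hcn, one_pow, mul_one]
  obtain ⟨m, hm⟩ := hodd
  rw [hm, show (2 * m + 1) * (2 * m + 1) = 4 * (m * m + m) + 1 by ring, pow_succ, pow_mul,
    S.pow_four hx, one_pow, one_mul]

/-- The column of an element of `P` in the principal block. -/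
theorem col_self {M : Ideal AlgInt} [M.IsPrime] (hM : IsPModular 2 M) {x : G} (hx : x ∈ P)
    (hx1 : x ≠ 1) :
    ∑ χ ∈ H22.blockFinset (principalBlock M G), (χ : G → ℂ) x * conj ((χ : G → ℂ) x) =
      (Nat.card ↥((P : Subgroup G) ⊓ Subgroup.centralizer ({x} : Set G)) : ℂ) := by
  classical
  haveI : Fact (Nat.Prime 2) := ⟨Nat.prime_two⟩
  obtain ⟨K, hKn, hKo, hKi⟩ := S.centralizer_complement hx hx1
  haveI := hKn
  haveI := Fintype.ofFinite ↥(Subgroup.centralizer ({x} : Set G))
  rw [← H22.finsum_mem_block, H11.column_pair hM (S.orderOf_two_pow hx) (S.orderOf_two_pow hx),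
    if_pos (IsConj.refl x), ← hKi, H22.finsum_mem_block, Nat.cast_sum,
    ← H22.Sub.sum_sq_principal_of_complement hM K
      (fun hd => (Nat.not_even_iff_odd.2 hKo) (even_iff_two_dvd.2 hd)) ?_]
  · refine sum_congr rfl fun ψ _ => ?_
    rw [H22.irr_one_eq_charDegree]
    push_cast
    ring
  · obtain ⟨j, hj⟩ := (P.2.to_le (inf_le_left :
      (P : Subgroup G) ⊓ Subgroup.centralizer ({x} : Set G) ≤ P)).exists_card_eq
    exact ⟨j, hKi.trans hj⟩

theorem col_ne {M : Ideal AlgInt} [M.IsPrime] (hM : IsPModular 2 M) {x y : G} (hx : x ∈ P)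
    (hy : y ∈ P) (hne : ¬ IsConj x y) :
    ∑ χ ∈ H22.blockFinset (principalBlock M G), (χ : G → ℂ) y * conj ((χ : G → ℂ) x) = 0 := by
  classical
  rw [← H22.finsum_mem_block, H11.column_pair hM (S.orderOf_two_pow hx) (S.orderOf_two_pow hy),
    if_neg hne]

theorem col_one {M : Ideal AlgInt} [M.IsPrime] (hM : IsPModular 2 M) {x : G} (hx : x ∈ P)
    (hx1 : x ≠ 1) :
    ∑ χ ∈ H22.blockFinset (principalBlock M G), (χ : G → ℂ) 1 * conj ((χ : G → ℂ) x) = 0 := by
  haveI : Fact (Nat.Prime 2) := ⟨Nat.prime_two⟩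
  rw [← H22.finsum_mem_block]
  refine H20.weak_orthogonality hM H20.isPBlock_principalBlock (by simp) ?_
  obtain ⟨k, hk⟩ := S.orderOf_two_pow hx
  rw [hk]
  exact dvd_pow_self 2 fun h0 => hx1 (orderOf_eq_one_iff.1 (by rw [hk, h0, pow_zero]))

theorem value_const {M : Ideal AlgInt} [M.IsPrime] (hM : IsPModular 2 M) {x : G} (hx : x ∈ P)
    {K : Subgroup ↥(Subgroup.centralizer ({x} : Set G))} (hKn : K.Normal)
    (hKo : Odd (Nat.card K)) {c : ↥(Subgroup.centralizer ({x} : Set G))} (hc : c ∈ K)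
    {χ : IrrCharacter G} (hχ : χ ∈ H22.blockFinset (principalBlock M G)) :
    (χ : G → ℂ) (x * (c : G)) = (χ : G → ℂ) x := by
  haveI : Fact (Nat.Prime 2) := ⟨Nat.prime_two⟩
  haveI := hKn
  exact H85.irr_apply_mul_pPrimeCore hM (S.orderOf_two_pow hx)
    ⟨c, H1.le_pPrimeCore (Nat.coprime_two_right.2 hKo) hc, rfl⟩ (H22.mem_blockFinset.1 hχ)

/-- Outside the principal block the characters sum to zero over the section of `x`. -/
theorem section_sum {M : Ideal AlgInt} [M.IsPrime] (hM : IsPModular 2 M) {x : G} (hx : x ∈ P)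
    (hx1 : x ≠ 1) {K : Subgroup ↥(Subgroup.centralizer ({x} : Set G))} [Fintype K]
    (hKn : K.Normal) (hKo : Odd (Nat.card K))
    (hKi : K.index = Nat.card ↥((P : Subgroup G) ⊓ Subgroup.centralizer ({x} : Set G)))
    {χ : IrrCharacter G} (hχ : χ ∉ H22.blockFinset (principalBlock M G)) :
    ∑ c : K, (χ : G → ℂ) (x * ((c : ↥(Subgroup.centralizer ({x} : Set G))) : G)) = 0 := by
  classical
  haveI := hKn
  set B := H22.blockFinset (principalBlock M G)
  let f : IrrCharacter G → ℂ := fun χ => ∑ c : K, (χ : G → ℂ) (x * ((c : ↥(Subgroup.centralizer ({x} : Set G))) : G))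
  have hn := fun c : K => S.pow_sq hx hKo c.2
  -- the full sum of squares
  have hall : ∑ χ : IrrCharacter G, f χ * conj (f χ) = (Nat.card ↥(Subgroup.centralizer ({x} : Set G)) : ℂ) * Nat.card K := by
    have e1 : ∑ χ : IrrCharacter G, f χ * conj (f χ) = ∑ c : K, ∑ c' : K,
        ((univ.filter fun k : G => k * (x * ((c : ↥(Subgroup.centralizer ({x} : Set G))) : G)) * k⁻¹ = x * ((c' : ↥(Subgroup.centralizer ({x} : Set G))) : G)).card : ℂ) := by
      simp only [f, map_sum, sum_mul_sum, ← column_count]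
      rw [sum_comm]
      exact sum_congr rfl fun c _ => sum_comm
    have e2 : ∀ c : K, ∀ k : G, (∑ c' : K,
        if k * (x * ((c : ↥(Subgroup.centralizer ({x} : Set G))) : G)) * k⁻¹ = x * ((c' : ↥(Subgroup.centralizer ({x} : Set G))) : G) then (1 : ℂ) else 0) =
        if k ∈ Subgroup.centralizer ({x} : Set G) then 1 else 0 := by
      intro c k
      split_ifs with hk
      · have hmem : (⟨k, hk⟩ : ↥(Subgroup.centralizer ({x} : Set G))) * (c : ↥(Subgroup.centralizer ({x} : Set G))) * (⟨k, hk⟩ : ↥(Subgroup.centralizer ({x} : Set G)))⁻¹ ∈ K := hKn.conj_mem _ c.2 _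
        have hcomm := Subgroup.mem_centralizer_singleton_iff.1 hk
        have he : k * (x * ((c : ↥(Subgroup.centralizer ({x} : Set G))) : G)) * k⁻¹ = x * (k * ((c : ↥(Subgroup.centralizer ({x} : Set G))) : G) * k⁻¹) := by
          rw [← mul_assoc k, hcomm]; group
        rw [sum_eq_single (⟨_, hmem⟩ : K)]
        · rw [if_pos]
          rw [he]
          simp
        · intro c' _ hne
          rw [if_neg]
          intro e
          refine hne (Subtype.ext (Subtype.ext ?_))
          rw [he] at e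
          simpa using (mul_left_cancel e).symm
        · simp
      · refine sum_eq_zero fun c' _ => if_neg fun e => hk ?_
        rw [Subgroup.mem_centralizer_singleton_iff]
        have e' := congrArg (fun y => y ^ (Nat.card K * Nat.card K)) e
        simp only [conj_pow, hn] at e'
        exact mul_inv_eq_iff_eq_mul.1 e'
    rw [e1]
    simp only [← sum_boole]
    refine (sum_congr rfl fun c _ => Finset.sum_comm.trans (sum_congr rfl fun k _ => e2 c k)).trans ?_
    rw [sum_const, sum_boole, ← Fintype.card_subtype, card_univ, ← Nat.card_eq_fintype_card,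
      ← Nat.card_eq_fintype_card, nsmul_eq_mul, mul_comm]
  have hB : ∑ χ ∈ B, f χ * conj (f χ) = (Nat.card ↥(Subgroup.centralizer ({x} : Set G)) : ℂ) * Nat.card K := by
    have e : ∀ χ ∈ B, f χ * conj (f χ) =
        (Nat.card K : ℂ) * Nat.card K * ((χ : G → ℂ) x * conj ((χ : G → ℂ) x)) := by
      intro χ hχ'
      have : f χ = (Nat.card K : ℂ) * (χ : G → ℂ) x := by
        show ∑ c : K, _ = _
        rw [sum_congr rfl fun c _ => S.value_const hM hx hKn hKo c.2 hχ', sum_const, card_univ,
          ← Nat.card_eq_fintype_card, nsmul_eq_mul]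
      rw [this, map_mul, Complex.conj_natCast]
      ring
    rw [sum_congr rfl e, ← mul_sum, S.col_self hM hx hx1, ← hKi, ← K.card_mul_index]
    push_cast
    ring
  have hrest : ∑ χ ∈ Bᶜ, f χ * conj (f χ) = 0 := by
    have := sum_add_sum_compl B fun χ => f χ * conj (f χ)
    rw [hall, hB] at this
    exact add_left_cancel (this.trans (add_zero _).symm)
  simp only [Complex.mul_conj] at hrest
  rw [← Complex.ofReal_sum, Complex.ofReal_eq_zero,
    sum_eq_zero_iff_of_nonneg fun _ _ => Complex.normSq_nonneg _] at hrest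
  exact Complex.normSq_eq_zero.1 (hrest χ (mem_compl.2 hχ))

/-- No product of two conjugates of an involution lies in the section of an element of order
four. -/
theorem products {M : Ideal AlgInt} [M.IsPrime] (hM : IsPModular 2 M) {a x : G}
    (ha : a * a = 1) (hx : x ∈ P) (hx2 : x * x ≠ 1) :
    ∑ χ ∈ H22.blockFinset (principalBlock M G),
      (χ : G → ℂ) a * (χ : G → ℂ) a * conj ((χ : G → ℂ) x) / (χ : G → ℂ) 1 = 0 := by
  classical
  have hx1 : x ≠ 1 := fun e => hx2 (by rw [e, one_mul])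
  obtain ⟨K, hKn, hKo, hKi⟩ := S.centralizer_complement hx hx1
  haveI := Fintype.ofFinite K
  set B := H22.blockFinset (principalBlock M G)
  have key : ∀ c : K, ∑ χ : IrrCharacter G,
      (χ : G → ℂ) a * (χ : G → ℂ) a / (χ : G → ℂ) 1 * conj ((χ : G → ℂ) (x * ((c : ↥(Subgroup.centralizer ({x} : Set G))) : G))) = 0 := by
    intro c
    refine (mul_eq_zero.1 ?_).resolve_left (H12.card_ne_zero' (G := G))
    have e : ∀ χ : IrrCharacter G, (Nat.card G : ℂ) * ((χ : G → ℂ) a * (χ : G → ℂ) a / (χ : G → ℂ) 1 *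
        conj ((χ : G → ℂ) (x * ((c : ↥(Subgroup.centralizer ({x} : Set G))) : G)))) =
        ∑ g : G, (χ : G → ℂ) (a * (g * a * g⁻¹)) * conj ((χ : G → ℂ) (x * ((c : ↥(Subgroup.centralizer ({x} : Set G))) : G))) := by
      intro χ
      rw [← sum_mul, H12.irr_class_product]
      ring
    rw [mul_sum, sum_congr rfl fun χ _ => e χ, sum_comm]
    refine sum_eq_zero fun g _ => ?_
    rw [column_count, Nat.cast_eq_zero, card_eq_zero, filter_eq_empty_iff]
    intro k _ hk
    refine S.no_products hx hx2 (s := k * a * k⁻¹) (t := k * (g * a * g⁻¹) * k⁻¹)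
      (by rw [conj_mul, ha, mul_one, mul_inv_cancel])
      (by rw [conj_mul, conj_mul, ha, mul_one, mul_inv_cancel, mul_one, mul_inv_cancel]) ?_
    rw [conj_mul, hk, Subgroup.mem_zpowers_iff]
    exact ⟨((Nat.card K * Nat.card K : ℕ) : ℤ), by rw [zpow_natCast, S.pow_sq hx hKo c.2]⟩
  have hsum : ∑ χ : IrrCharacter G, (χ : G → ℂ) a * (χ : G → ℂ) a / (χ : G → ℂ) 1 *
      conj (∑ c : K, (χ : G → ℂ) (x * ((c : ↥(Subgroup.centralizer ({x} : Set G))) : G))) = 0 := by
    simp only [map_sum, mul_sum]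
    rw [sum_comm]
    exact sum_eq_zero fun c _ => key c
  rw [← sum_subset (subset_univ B) fun χ _ hχ => by
    rw [S.section_sum hM hx hx1 hKn hKo hKi hχ, map_zero, mul_zero]] at hsum
  have hterm : ∀ χ ∈ B, (χ : G → ℂ) a * (χ : G → ℂ) a / (χ : G → ℂ) 1 *
      conj (∑ c : K, (χ : G → ℂ) (x * ((c : ↥(Subgroup.centralizer ({x} : Set G))) : G))) =
      (Nat.card K : ℂ) *
        ((χ : G → ℂ) a * (χ : G → ℂ) a * conj ((χ : G → ℂ) x) / (χ : G → ℂ) 1) := by
    intro χ hχ
    have hc : ∀ c : K, (χ : G → ℂ) (x * ((c : ↥(Subgroup.centralizer ({x} : Set G))) : G)) =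
        (χ : G → ℂ) x := fun c => S.value_const hM hx hKn hKo c.2 hχ
    simp only [hc, sum_const, card_univ, ← Nat.card_eq_fintype_card, nsmul_eq_mul, map_mul,
      Complex.conj_natCast]
    ring
  rw [sum_congr rfl hterm, ← mul_sum] at hsum
  exact (mul_eq_zero.1 hsum).resolve_left (Nat.cast_ne_zero.2 Nat.card_pos.ne')

end U34

end H83.GI
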