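import Cfsg.Agent.H83.GI.FourNondeg
import Cfsg.Agent.H12.Linear
import Cfsg.Agent.H12.Products

/-!
Linear characters of a Sylow 2-subgroup of U₃(4) type and the congruence for the values at its
involutions (helper83).
-/

set_option autoImplicit false
set_option linter.unusedSectionVars false
set_option linter.style.haveILetI false

namespace H83.GI

open Cfsg Finset
open scoped ComplexConjugate commutatorElement

universe u

variable {G : Type u} [Group G] [Fintype G]

/-- The linear characters of a Sylow subgroup. -/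
abbrev Lam (P : Sylow 2 G) : Type u := ↥(P : Subgroup G) →* ℂˣ

namespace U34

variable {P : Sylow 2 G} {h : G} (S : U34 P h)
include S

theorem commutator_mem_iff (x : ↥(P : Subgroup G)) :
    x ∈ commutator ↥(P : Subgroup G) ↔ (x : G) ∈ S.omega := by
  constructor
  · intro hx
    have hle : commutator ↥(P : Subgroup G) ≤ S.omega.subgroupOf (P : Subgroup G) := by
      rw [commutator_def, Subgroup.commutator_le]
      intro u _ v _
      exact S.comm_mem u.2 v.2
    exact hle hx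
  · intro hx
    by_cases hx1 : (x : G) = 1
    · rw [show x = 1 from Subtype.ext hx1]; exact one_mem _
    obtain ⟨v, hv, hv2⟩ := S.exists_sq hx
    obtain ⟨y, hy, hy1, -⟩ := S.nondeg hx hx1 hv (by rw [hv2]; exact hx1)
    obtain ⟨i, hi⟩ := S.exists_pow (S.comm_mem hy hv) hy1 hx hx1
    rw [show x = ⁅(⟨_, S.conj_mem i hy⟩ : ↥(P : Subgroup G)), ⟨_, S.conj_mem i hv⟩⁆ from
      Subtype.ext (by simp only [commutatorElement_def, Subgroup.coe_mul, Subgroup.coe_inv, ← hi]
                      group)]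
    exact Subgroup.commutator_mem_commutator (Subgroup.mem_top _) (Subgroup.mem_top _)

theorem card_lam : Nat.card (Lam P) = 16 := by
  rw [H12.card_monoidHom_units]
  have e : commutator ↥(P : Subgroup G) = S.omega.subgroupOf (P : Subgroup G) :=
    Subgroup.ext fun x => S.commutator_mem_iff x
  have h1 := (commutator ↥(P : Subgroup G)).card_mul_index
  rw [S.card, show Nat.card ↥(commutator ↥(P : Subgroup G)) = 4 by
    rw [e, Nat.card_congr (Subgroup.subgroupOfEquivOfLe S.omega_le).toEquiv, S.card_omega]] at h1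
  omega

theorem lam_omega (f : Lam P) {x : ↥(P : Subgroup G)} (hx : (x : G) ∈ S.omega) : f x = 1 :=
  Abelianization.commutator_subset_ker f ((S.commutator_mem_iff x).2 hx)

theorem lam_pm (f : Lam P) (x : ↥(P : Subgroup G)) : (f x : ℂ) = 1 ∨ (f x : ℂ) = -1 := by
  have e : f x * f x = 1 := by
    rw [← map_mul]; exact S.lam_omega f (S.sq_mem x.2)
  exact mul_self_eq_one_iff.1 (by rw [← Units.val_mul, e, Units.val_one])

theorem lam_conj (f : Lam P) (x : ↥(P : Subgroup G)) : conj (f x : ℂ) = (f x : ℂ) := by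
  rcases S.lam_pm f x with e | e <;> rw [e] <;> simp

theorem lam_sep {x : ↥(P : Subgroup G)} (hx : (x : G) ∉ S.omega) : ∃ f : Lam P, f x ≠ 1 := by
  haveI : Finite (Abelianization ↥(P : Subgroup G)) :=
    Finite.of_surjective _ QuotientGroup.mk_surjective
  have hne : Abelianization.of x ≠ 1 := fun e => hx ((S.commutator_mem_iff x).1 (by
    rw [← Abelianization.ker_of]; exact e))
  obtain ⟨φ, hφ⟩ := CommGroup.exists_apply_ne_one_of_hasEnoughRootsOfUnity
    (Abelianization ↥(P : Subgroup G)) ℂ hne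
  exact ⟨φ.comp Abelianization.of, hφ⟩

theorem sum_lam [Fintype (Lam P)] (x : ↥(P : Subgroup G)) [Decidable ((x : G) ∈ S.omega)] :
    ∑ f : Lam P, (f x : ℂ) = if (x : G) ∈ S.omega then 16 else 0 := by
  split_ifs with hx
  · rw [sum_congr rfl fun f _ => show (f x : ℂ) = 1 by rw [S.lam_omega f hx, Units.val_one],
      sum_const, card_univ, ← Nat.card_eq_fintype_card, S.card_lam]
    norm_num
  · obtain ⟨g, hg⟩ := S.lam_sep hx
    have e : ∑ f : Lam P, (f x : ℂ) = (g x : ℂ) * ∑ f : Lam P, (f x : ℂ) := by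
      rw [mul_sum]
      exact (Equiv.sum_comp (Equiv.mulLeft g) fun f : Lam P => (f x : ℂ)).symm.trans
        (sum_congr rfl fun f _ => by simp)
    have h0 : ((g x : ℂ) - 1) * ∑ f : Lam P, (f x : ℂ) = 0 := by linear_combination -e
    refine (mul_eq_zero.1 h0).resolve_left (sub_ne_zero.2 ?_)
    exact fun e' => hg (Units.ext e')

theorem sum_apply [Fintype ↥(P : Subgroup G)] {f : Lam P} (hf : f ≠ 1) :
    ∑ x : ↥(P : Subgroup G), (f x : ℂ) = 0 := by
  obtain ⟨g, hg⟩ : ∃ g, f g ≠ 1 := by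
    by_contra hcon
    push Not at hcon
    exact hf (MonoidHom.ext hcon)
  have e : ∑ x : ↥(P : Subgroup G), (f x : ℂ) = (f g : ℂ) * ∑ x : ↥(P : Subgroup G), (f x : ℂ) := by
    rw [mul_sum]
    exact (Equiv.sum_comp (Equiv.mulLeft g) fun x => (f x : ℂ)).symm.trans
      (sum_congr rfl fun x _ => by simp)
  have h0 : ((f g : ℂ) - 1) * ∑ x : ↥(P : Subgroup G), (f x : ℂ) = 0 := by linear_combination -e
  refine (mul_eq_zero.1 h0).resolve_left (sub_ne_zero.2 ?_)
  exact fun e' => hg (Units.ext e')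

/-- Conjugation by a power of `h` on `P`. -/
def conjP (i : Fin 3) : ↥(P : Subgroup G) →* ↥(P : Subgroup G) where
  toFun x := ⟨h ^ (i : ℕ) * x * (h ^ (i : ℕ))⁻¹, S.conj_mem i x.2⟩
  map_one' := Subtype.ext (by simp)
  map_mul' x y := Subtype.ext (by simp only [Subgroup.coe_mul]; group)

theorem conjP_apply (i : Fin 3) (x : ↥(P : Subgroup G)) :
    ((S.conjP i x : ↥(P : Subgroup G)) : G) = h ^ (i : ℕ) * x * (h ^ (i : ℕ))⁻¹ := rfl

theorem conjP_injective (i : Fin 3) : Function.Injective (S.conjP i) := fun x y e =>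
  Subtype.ext (mul_left_cancel (mul_right_cancel (congrArg Subtype.val e)))

theorem fixed_eq_one {i : Fin 3} (hi : i ≠ 0) {y : G} (hy : y ∈ P)
    (e : h ^ (i : ℕ) * y * (h ^ (i : ℕ))⁻¹ = y) : y = 1 := by
  have key : ∀ a ∈ S.omega, h ^ (i : ℕ) * a * (h ^ (i : ℕ))⁻¹ = a → a = 1 := fun a ha e' => by
    by_contra ha1
    exact hi (S.pow_inj ha ha1 (j := 0) (by simpa using e'))
  exact key y ⟨hy, key _ (S.sq_mem hy) (by rw [← conj_mul, e])⟩ e

/-- The twist of a linear character. -/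
def tw (i : Fin 3) (f : Lam P) : Lam P := f.comp (S.conjP i)

theorem tw_zero (f : Lam P) : S.tw 0 f = f :=
  MonoidHom.ext fun x => congrArg f (Subtype.ext (by simp [conjP_apply]))

theorem tw_ne_one (i : Fin 3) {f : Lam P} (hf : f ≠ 1) : S.tw i f ≠ 1 := fun e => hf (by
  ext x
  obtain ⟨y, rfl⟩ := (Finite.injective_iff_surjective.1 (S.conjP_injective i)) x
  exact congrArg Units.val (DFunLike.congr_fun e y))

theorem tw_injective {f : Lam P} (hf : f ≠ 1) : Function.Injective fun i => S.tw i f := by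
  have main : ∀ i j : Fin 3, (i : ℕ) < j → S.tw i f ≠ S.tw j f := by
    intro i j hij e
    obtain ⟨k, hk⟩ : ∃ k : Fin 3, (j : ℕ) = k + i := ⟨⟨j - i, by omega⟩, by simp; omega⟩
    have hk0 : k ≠ 0 := fun h0 => by rw [h0] at hk; simp at hk; omega
    refine hf (MonoidHom.ext fun x => ?_)
    obtain ⟨z, hz⟩ : ∃ z, (S.conjP k z) * z⁻¹ = x :=
      ((Finite.injective_iff_surjective (f := fun z => S.conjP k z * z⁻¹)).1 (fun u v euv => by
        simp only at euv
        have e1 : S.conjP k (v⁻¹ * u) = v⁻¹ * u := by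
          rw [map_mul, map_inv]
          calc (S.conjP k v)⁻¹ * S.conjP k u = (S.conjP k v)⁻¹ * (S.conjP k u * u⁻¹) * u := by group
            _ = (S.conjP k v)⁻¹ * (S.conjP k v * v⁻¹) * u := by rw [euv]
            _ = v⁻¹ * u := by group
        have := S.fixed_eq_one hk0 (v⁻¹ * u).2 (congrArg Subtype.val e1)
        exact (inv_mul_eq_one.1 (Subtype.ext this : v⁻¹ * u = 1)).symm)) x
    obtain ⟨y, hy⟩ := (Finite.injective_iff_surjective.1 (S.conjP_injective i)) z
    have e2 : S.conjP j y = S.conjP k z := by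
      rw [← hy]
      exact Subtype.ext (by simp only [conjP_apply, hk, pow_add]; group)
    have e3 : f (S.conjP i y) = f (S.conjP j y) := DFunLike.congr_fun e y
    rw [hy, e2] at e3
    rw [← hz, map_mul, map_inv, ← e3, mul_inv_cancel]
    rfl
  intro i j e
  rcases lt_trichotomy (i : ℕ) j with hlt | heq | hlt
  · exact absurd e (main i j hlt)
  · exact Fin.ext heq
  · exact absurd e.symm (main j i hlt)

/-- The contribution of an irreducible character of `P` is zero or sixteen. -/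
theorem irr_omega [Fintype ↥(P : Subgroup G)] [Fintype ↥S.omega]
    (ξ : IrrCharacter ↥(P : Subgroup G)) :
    4 * (ξ : ↥(P : Subgroup G) → ℂ) 1 -
        ∑ a : S.omega, (ξ : ↥(P : Subgroup G) → ℂ) ⟨a, S.omega_le a.2⟩ = 0 ∨
      4 * (ξ : ↥(P : Subgroup G) → ℂ) 1 -
        ∑ a : S.omega, (ξ : ↥(P : Subgroup G) → ℂ) ⟨a, S.omega_le a.2⟩ = 16 := by
  classical
  have hd := H12.irr_apply_one_ne_zero ξ
  let ι : S.omega → ↥(P : Subgroup G) := fun a => ⟨a, S.omega_le a.2⟩
  let c : S.omega → ℂ := fun a => (ξ : ↥(P : Subgroup G) → ℂ) (ι a) / (ξ : ↥(P : Subgroup G) → ℂ) 1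
  have hcz : ∀ (a : S.omega) (x : ↥(P : Subgroup G)),
      (ξ : ↥(P : Subgroup G) → ℂ) (x * ι a) = c a * (ξ : ↥(P : Subgroup G) → ℂ) x := by
    intro a x
    have h1 := H12.irr_class_product ξ x (ι a)
    rw [sum_congr rfl fun g _ => show (ξ : ↥(P : Subgroup G) → ℂ) (x * (g * ι a * g⁻¹)) =
      (ξ : ↥(P : Subgroup G) → ℂ) (x * ι a) from congrArg _ (congrArg _
        (Subtype.ext (S.conj_omega_eq g.2 a.2))), sum_const, card_univ,
      ← Nat.card_eq_fintype_card, nsmul_eq_mul, mul_div_assoc] at h1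
    rw [mul_left_cancel₀ (H12.card_ne_zero' (G := ↥(P : Subgroup G))) h1]
    simp only [c]
    ring
  have hmul : ∀ a b : S.omega, c (a * b) = c a * c b := by
    intro a b
    have e := hcz b (ι a)
    rw [show ι a * ι b = ι (a * b) from rfl] at e
    show (ξ : ↥(P : Subgroup G) → ℂ) (ι (a * b)) / _ = _
    rw [e]
    simp only [c]
    ring
  have hc1 : c 1 = 1 := div_self hd
  have hpm : ∀ a, c a = 1 ∨ c a = -1 := fun a => mul_self_eq_one_iff.1 (by
    rw [← hmul, show a * a = 1 from Subtype.ext a.2.2, hc1])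
  have hval : ∀ a, (ξ : ↥(P : Subgroup G) → ℂ) (ι a) = c a * (ξ : ↥(P : Subgroup G) → ℂ) 1 :=
    fun a => (div_mul_cancel₀ _ hd).symm
  show 4 * _ - ∑ a, (ξ : ↥(P : Subgroup G) → ℂ) (ι a) = 0 ∨
    4 * _ - ∑ a, (ξ : ↥(P : Subgroup G) → ℂ) (ι a) = 16
  rw [sum_congr rfl fun a _ => hval a, ← sum_mul]
  by_cases hall : ∀ a, c a = 1
  · left
    rw [sum_congr rfl fun a _ => hall a, sum_const, card_univ, ← Nat.card_eq_fintype_card,
      S.card_omega]
    simp
  push Not at hall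
  obtain ⟨z, hz⟩ := hall
  have hzm : c z = -1 := (hpm z).resolve_left hz
  have hz1 : (z : G) ≠ 1 := fun e => hz (by rw [show z = 1 from Subtype.ext e, hc1])
  have hsum0 : ∑ a, c a = 0 := by
    have e : ∑ a, c a = c z * ∑ a, c a := by
      rw [mul_sum]
      exact (Equiv.sum_comp (Equiv.mulLeft z) c).symm.trans
        (sum_congr rfl fun a _ => hmul z a)
    rw [hzm] at e
    linear_combination e / 2
  -- the involution in the kernel
  obtain ⟨a₀, ha₀, ha₀c⟩ : ∃ a₀ : S.omega, (a₀ : G) ≠ 1 ∧ c a₀ = 1 := by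
    obtain ⟨hb, -, -, -⟩ := S.cycle z.2 hz1
    set b : S.omega := ⟨h * z * h⁻¹, by simpa using S.conj_omega 1 z.2⟩ with hbdef
    rcases hpm b with e | e
    · exact ⟨b, fun e' => hz1 (conj_eq_one_iff.1 e'), e⟩
    · refine ⟨z * b, fun e' => hb ?_, by rw [hmul, hzm, e]; norm_num⟩
      rw [Subgroup.coe_mul, mul_eq_one_iff_eq_inv] at e'
      exact (e'.trans (S.inv_omega b.2)).symm
  have hoff : ∀ a : S.omega, (a : G) ≠ 1 → (a : G) ≠ a₀ → c a = -1 := by
    intro a ha1 ha0
    by_cases haz : (a : G) = z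
    · rw [show a = z from Subtype.ext haz, hzm]
    · have hza : (z : G) ≠ a₀ := fun e => hz (by rw [show z = a₀ from Subtype.ext e, ha₀c])
      have e : a * z = a₀ :=
        Subtype.ext (S.mul_eq_third a₀.2 ha₀ a.2 ha1 ha0 z.2 hz1 hza haz)
      have := hmul a z
      rw [e, ha₀c, hzm] at this
      linear_combination this
  have hvanish : ∀ x : ↥(P : Subgroup G), (x : G) * x ≠ 1 → (ξ : ↥(P : Subgroup G) → ℂ) x = 0 := by
    intro x hx2
    obtain ⟨y, hy, hy1, hy0⟩ := S.nondeg a₀.2 ha₀ x.2 hx2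
    set w : S.omega := ⟨⁅y, (x : G)⁆, S.comm_mem hy x.2⟩
    have hcw : c w = -1 := hoff w hy1 hy0
    set y' : ↥(P : Subgroup G) := ⟨y, hy⟩
    have e : y' * x * y'⁻¹ = x * ι w := Subtype.ext (by
      show y * (x : G) * y⁻¹ = x * ⁅y, (x : G)⁆
      rw [← S.comm_omega (S.comm_mem hy x.2) x.2, commutatorElement_def]
      group)
    have h1 : (ξ : ↥(P : Subgroup G) → ℂ) (y' * x * y'⁻¹) = (ξ : ↥(P : Subgroup G) → ℂ) x :=
      H12.irr_isClassFunction ξ x y'
    rw [e, hcz, hcw] at h1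
    linear_combination -h1 / 2
  have hnorm : ∑ x : ↥(P : Subgroup G), (ξ : ↥(P : Subgroup G) → ℂ) x *
      conj ((ξ : ↥(P : Subgroup G) → ℂ) x) = 64 := by
    rw [H12.sum_mul_conj_eq_card_mul, H12.classInner_irr_self, S.card]
    norm_num
  have hsupp : ∑ x : ↥(P : Subgroup G), (ξ : ↥(P : Subgroup G) → ℂ) x *
      conj ((ξ : ↥(P : Subgroup G) → ℂ) x) =
      ∑ a : S.omega, (ξ : ↥(P : Subgroup G) → ℂ) 1 * (ξ : ↥(P : Subgroup G) → ℂ) 1 := by
    rw [← sum_subset (subset_univ (univ.filter fun x : ↥(P : Subgroup G) => (x : G) * x = 1))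
      fun x _ hx => by rw [hvanish x fun e => hx (mem_filter.2 ⟨mem_univ x, e⟩), zero_mul]]
    symm
    refine sum_bij (fun a _ => ι a) (fun a _ => mem_filter.2 ⟨mem_univ _, a.2.2⟩)
      (fun a _ b _ e => Subtype.ext (congrArg (fun t => ((t : ↥(P : Subgroup G)) : G)) e))
      (fun x hx => ⟨⟨x, x.2, (mem_filter.1 hx).2⟩, mem_univ _, rfl⟩) fun a _ => ?_
    rw [hval a]
    have hreal : conj ((ξ : ↥(P : Subgroup G) → ℂ) 1) = (ξ : ↥(P : Subgroup G) → ℂ) 1 := by
      rw [H12.irr_apply_one]; simp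
    rcases hpm a with e | e <;> rw [e] <;> simp [hreal]
  rw [sum_const, card_univ, ← Nat.card_eq_fintype_card, S.card_omega, hnorm] at hsupp
  right
  rw [hsum0, zero_mul, sub_zero]
  rw [H12.irr_apply_one] at hsupp ⊢
  rw [nsmul_eq_mul] at hsupp
  have h64 : 64 = 4 * (H12.degree (ξ : ↥(P : Subgroup G) → ℂ) *
      H12.degree (ξ : ↥(P : Subgroup G) → ℂ)) := by exact_mod_cast hsupp
  have h4 : H12.degree (ξ : ↥(P : Subgroup G) → ℂ) = 4 := by nlinarith
  rw [h4]
  norm_num

/-- The congruence between the degree and the values at the involutions. -/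
theorem sixteen_dvd (χ : IrrCharacter G) {d u : ℤ} (hd : (χ : G → ℂ) 1 = (d : ℂ))
    (hu : ∀ a ∈ S.omega, a ≠ 1 → (χ : G → ℂ) a = (u : ℂ)) : (16 : ℤ) ∣ d - u := by
  classical
  haveI := Fintype.ofFinite ↥(P : Subgroup G)
  haveI := Fintype.ofFinite ↥S.omega
  obtain ⟨m, hm⟩ := H12.IsCharacter.exists_mult (H12.IsCharacter.res (H12.isCharacter_irr χ) (P : Subgroup G))
  have hres : ∀ x : ↥(P : Subgroup G), (χ : G → ℂ) x =
      ∑ ξ : IrrCharacter ↥(P : Subgroup G), (m ξ : ℂ) * (ξ : ↥(P : Subgroup G) → ℂ) x := fun x => by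
    have e := congrFun hm x
    simpa [Finset.sum_apply] using e
  have h1 : ∑ a : S.omega, (χ : G → ℂ) a = (d : ℂ) + 3 * (u : ℂ) := by
    rw [← add_sum_erase univ (fun a : S.omega => (χ : G → ℂ) a) (mem_univ 1)]
    rw [sum_congr rfl fun (a : S.omega) ha => hu a a.2 fun e => (mem_erase.1 ha).1 (Subtype.ext e), sum_const,
      card_erase_of_mem (mem_univ _), card_univ, ← Nat.card_eq_fintype_card, S.card_omega, ← hd,
      OneMemClass.coe_one]
    norm_num
  have h2 : 4 * (χ : G → ℂ) 1 - ∑ a : S.omega, (χ : G → ℂ) a =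
      ∑ ξ : IrrCharacter ↥(P : Subgroup G), (m ξ : ℂ) * (4 * (ξ : ↥(P : Subgroup G) → ℂ) 1 -
        ∑ a : S.omega, (ξ : ↥(P : Subgroup G) → ℂ) ⟨a, S.omega_le a.2⟩) := by
    have e1 := hres 1
    rw [OneMemClass.coe_one] at e1
    rw [e1, sum_congr rfl fun (a : S.omega) _ => hres ⟨a, S.omega_le a.2⟩, mul_sum, sum_comm,
      ← sum_sub_distrib]
    refine sum_congr rfl fun ξ _ => ?_
    rw [mul_sub, ← mul_sum]
    ring
  have hk : ∀ ξ : IrrCharacter ↥(P : Subgroup G), ∃ k : ℤ, (m ξ : ℂ) *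
      (4 * (ξ : ↥(P : Subgroup G) → ℂ) 1 -
        ∑ a : S.omega, (ξ : ↥(P : Subgroup G) → ℂ) ⟨a, S.omega_le a.2⟩) = ((16 * k : ℤ) : ℂ) := by
    intro ξ
    rcases S.irr_omega ξ with e | e
    · exact ⟨0, by rw [e]; simp⟩
    · exact ⟨m ξ, by rw [e]; push_cast; ring⟩
  choose k hk using hk
  rw [sum_congr rfl fun ξ _ => hk ξ, ← Int.cast_sum, ← mul_sum, h1, hd,
    show 4 * (d : ℂ) - ((d : ℂ) + 3 * (u : ℂ)) = ((3 * (d - u) : ℤ) : ℂ) by push_cast; ring] at h2
  have h3 : (16 : ℤ) ∣ 3 * (d - u) := ⟨_, Int.cast_injective h2⟩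
  omega

end U34

end H83.GI
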