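import Cfsg.Agent.H83.GI.FourSetup
import Mathlib

/-!
A Sylow 2-subgroup of U₃(4) type (helper83): the commutator form composed with a nontrivial
functional on the involutions is non-degenerate (a Gauss sum).
-/

set_option autoImplicit false
set_option linter.unusedSectionVars false
set_option linter.style.haveILetI false

namespace H83.GI

open Subgroup Finset
open scoped commutatorElement

universe u

variable {G : Type u} [Group G] [Finite G]

open scoped Classical in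
/-- The functional on the involutions with kernel `{1, a}`. -/
noncomputable def sgn (a z : G) : ℤ := if z = 1 ∨ z = a then 1 else -1

theorem sgn_one (a : G) : sgn a (1 : G) = 1 := if_pos (Or.inl rfl)

theorem sgn_pm (a z : G) : sgn a z = 1 ∨ sgn a z = -1 := by
  unfold sgn; split_ifs
  · exact Or.inl rfl
  · exact Or.inr rfl

theorem sgn_conj (k a z : G) : sgn (k * a * k⁻¹) (k * z * k⁻¹) = sgn a z := by
  have e : (k * z * k⁻¹ = 1 ∨ k * z * k⁻¹ = k * a * k⁻¹) ↔ (z = 1 ∨ z = a) := by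
    rw [conj_eq_one_iff, mul_left_inj, mul_right_inj]
  unfold sgn
  by_cases hz : z = 1 ∨ z = a
  · rw [if_pos hz, if_pos (e.2 hz)]
  · rw [if_neg hz, if_neg (mt e.1 hz)]

namespace U34

variable {P : Sylow 2 G} {h : G} (S : U34 P h)
include S

theorem mul_eq_third {a z w : G} (ha : a ∈ S.omega) (ha1 : a ≠ 1) (hz : z ∈ S.omega) (hz1 : z ≠ 1)
    (hza : z ≠ a) (hw : w ∈ S.omega) (hw1 : w ≠ 1) (hwa : w ≠ a) (hzw : z ≠ w) : z * w = a := by
  obtain ⟨-, -, -, hall⟩ := S.cycle ha ha1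
  have hm := S.omega.mul_mem hz hw
  have h1 : z * w ≠ 1 := fun e => hzw (by
    rw [mul_eq_one_iff_eq_inv, S.inv_omega hw] at e; exact e)
  have h2 : z * w ≠ z := fun e => hw1 (mul_eq_left.1 e)
  have h3 : z * w ≠ w := fun e => hz1 (mul_eq_right.1 e)
  rcases hall z hz hz1 with e | e | e <;> rcases hall w hw hw1 with e' | e' | e' <;>
    rcases hall (z * w) hm h1 with e'' | e'' | e''
  all_goals first
    | exact e''
    | exact absurd e hza
    | exact absurd e' hwa
    | exact absurd (e.trans e'.symm) hzw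
    | exact absurd (e''.trans e.symm) h2
    | exact absurd (e''.trans e'.symm) h3

theorem sgn_mul {a z w : G} (ha : a ∈ S.omega) (ha1 : a ≠ 1) (hz : z ∈ S.omega)
    (hw : w ∈ S.omega) : sgn a (z * w) = sgn a z * sgn a w := by
  by_cases hz1 : z = 1
  · rw [hz1, one_mul, sgn_one, one_mul]
  by_cases hw1 : w = 1
  · rw [hw1, mul_one, sgn_one, mul_one]
  by_cases hzw : z = w
  · subst hzw
    rw [hz.2, sgn_one]
    rcases sgn_pm a z with e | e <;> rw [e] <;> norm_num
  by_cases hza : z = a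
  · subst hza
    unfold sgn
    rw [if_pos (Or.inr rfl), one_mul, if_neg (not_or.2 ⟨hw1, Ne.symm hzw⟩), if_neg]
    rintro (e | e)
    · exact hzw (by rw [mul_eq_one_iff_eq_inv, S.inv_omega hw] at e; exact e)
    · exact hw1 (mul_eq_left.1 e)
  by_cases hwa : w = a
  · subst hwa
    unfold sgn
    rw [if_pos (Or.inr rfl), mul_one, if_neg (not_or.2 ⟨hz1, hzw⟩), if_neg]
    rintro (e | e)
    · exact hzw (by rw [mul_eq_one_iff_eq_inv, S.inv_omega hw] at e; exact e)
    · exact hz1 (mul_eq_right.1 e)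
  rw [S.mul_eq_third ha ha1 hz hz1 hza hw hw1 hwa hzw]
  unfold sgn
  rw [if_pos (Or.inr rfl), if_neg (not_or.2 ⟨hz1, hza⟩), if_neg (not_or.2 ⟨hw1, hwa⟩)]
  norm_num

theorem conj_omega_eq {p z : G} (hp : p ∈ P) (hz : z ∈ S.omega) : p * z * p⁻¹ = z := by
  rw [← S.comm_omega hz hp, mul_inv_cancel_right]

theorem comm_mul_left {x y w : G} (hx : x ∈ P) (hy : y ∈ P) (hw : w ∈ P) :
    ⁅x * y, w⁆ = ⁅y, w⁆ * ⁅x, w⁆ := by
  have e : ⁅x * y, w⁆ = x * ⁅y, w⁆ * x⁻¹ * ⁅x, w⁆ := by simp only [commutatorElement_def]; group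
  rw [e, S.conj_omega_eq hx (S.comm_mem hy hw)]

theorem comm_mul_right {x y w : G} (hx : x ∈ P) (hy : y ∈ P) (hw : w ∈ P) :
    ⁅x, y * w⁆ = ⁅x, y⁆ * ⁅x, w⁆ := by
  have e : ⁅x, y * w⁆ = ⁅x, y⁆ * (y * ⁅x, w⁆ * y⁻¹) := by simp only [commutatorElement_def]; group
  rw [e, S.conj_omega_eq hy (S.comm_mem hx hw)]

/-- No coset of the involutions is orthogonal to `P` under a nontrivial functional. -/
theorem nondeg {a x : G} (ha : a ∈ S.omega) (ha1 : a ≠ 1) (hx : x ∈ P) (hx2 : x * x ≠ 1) :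
    ∃ y ∈ P, ⁅y, x⁆ ≠ 1 ∧ ⁅y, x⁆ ≠ a := by
  classical
  haveI := Fintype.ofFinite G
  by_contra hcon
  push Not at hcon
  set Q := (univ : Finset G).filter fun g => g ∈ P with hQ
  have memQ : ∀ g, g ∈ Q ↔ g ∈ P := fun g => by simp [hQ]
  have hQc : Q.card = 64 := by
    rw [← S.card, Nat.card_eq_fintype_card]
    exact (Fintype.card_subtype _).symm
  -- the Gauss sums
  let T : G → ℤ := fun b => ∑ p ∈ Q, sgn b (p * p)
  have hT : ∀ b ∈ S.omega, b ≠ 1 → T b = T a := by
    intro b hb hb1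
    obtain ⟨i, hi⟩ := S.exists_pow ha ha1 hb hb1
    refine (sum_nbij' (fun p => h ^ (i : ℕ) * p * (h ^ (i : ℕ))⁻¹)
      (fun p => (h ^ (i : ℕ))⁻¹ * p * h ^ (i : ℕ)) (fun p hp => (memQ _).2 (S.conj_mem _ ((memQ _).1 hp)))
      (fun p hp => (memQ _).2 (S.inv_conj_mem _ ((memQ _).1 hp)))
      (fun p _ => by group) (fun p _ => by group) fun p _ => ?_).symm
    rw [← hi, conj_mul, sgn_conj]
  obtain ⟨hab, hac, -, hall⟩ := S.cycle ha ha1
  set b := h * a * h⁻¹ with hb
  set c := h ^ 2 * a * (h ^ 2)⁻¹ with hc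
  have hbA : b ∈ S.omega := by simpa using S.conj_omega 1 ha
  have hcA : c ∈ S.omega := S.conj_omega 2 ha
  have hb1 : b ≠ 1 := fun e => ha1 (conj_eq_one_iff.1 e)
  have hc1 : c ≠ 1 := fun e => ha1 (conj_eq_one_iff.1 e)
  have hcb : c ≠ b := by
    intro e
    have := S.pow_inj ha ha1 (i := 2) (j := 1) (by simpa [hb, hc] using e)
    simp at this
  have hsum : ∀ z ∈ S.omega, sgn a z + sgn b z + sgn c z = (if z = 1 then 4 else 0) - 1 := by
    intro z hz
    by_cases hz1 : z = 1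
    · rw [if_pos hz1, hz1, sgn_one, sgn_one, sgn_one]; norm_num
    rw [if_neg hz1]
    rcases hall z hz hz1 with e | e | e <;> subst e <;> unfold sgn
    · rw [if_pos (Or.inr rfl), if_neg (not_or.2 ⟨hz1, Ne.symm hab⟩),
        if_neg (not_or.2 ⟨hz1, Ne.symm hac⟩)]
      norm_num
    · rw [if_pos (Or.inr rfl), if_neg (not_or.2 ⟨hz1, hab⟩),
        if_neg (not_or.2 ⟨hz1, Ne.symm hcb⟩)]
      norm_num
    · rw [if_pos (Or.inr rfl), if_neg (not_or.2 ⟨hz1, hac⟩), if_neg (not_or.2 ⟨hz1, hcb⟩)]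
      norm_num
  have h4 : (Q.filter fun p => p * p = 1).card = 4 := by
    rw [← S.card_omega, Nat.card_eq_fintype_card]
    refine ((Fintype.card_subtype _).trans ?_).symm
    congr 1
    ext g
    simp [hQ, mem_omega]
  have hTa : T a = -16 := by
    have h3 : T a + T b + T c = 4 * 4 - 64 := by
      show ∑ p ∈ Q, sgn a (p * p) + ∑ p ∈ Q, sgn b (p * p) + ∑ p ∈ Q, sgn c (p * p) = _
      rw [← sum_add_distrib, ← sum_add_distrib,
        sum_congr rfl fun p hp => hsum _ (S.sq_mem ((memQ p).1 hp)), sum_sub_distrib, ← sum_filter,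
        sum_const, sum_const, h4, hQc]
      norm_num
    rw [hT b hbA hb1, hT c hcA hc1] at h3
    omega
  have hmul : ∀ p ∈ Q, ∀ u ∈ Q, sgn a (p * p) * sgn a (p * u * (p * u)) =
      sgn a (u * u) * sgn a ⁅p⁻¹, u⁆ := by
    intro p hp u hu
    rw [memQ] at hp hu
    have e : p * u * (p * u) = p * p * (⁅p⁻¹, u⁆ * (u * u)) := by
      rw [commutatorElement_def]; group
    rw [e, S.sgn_mul ha ha1 (S.sq_mem hp) (mul_mem (S.comm_mem (inv_mem hp) hu) (S.sq_mem hu)),
      S.sgn_mul ha ha1 (S.comm_mem (inv_mem hp) hu) (S.sq_mem hu)]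
    rcases sgn_pm a (p * p) with e | e <;> rw [e] <;> ring
  set R := Q.filter fun u => ∀ p ∈ Q, sgn a ⁅p, u⁆ = 1 with hR
  have hinner : ∀ u ∈ Q, ∑ p ∈ Q, sgn a ⁅p⁻¹, u⁆ = if u ∈ R then 64 else 0 := by
    intro u hu
    have hinv : ∑ p ∈ Q, sgn a ⁅p⁻¹, u⁆ = ∑ p ∈ Q, sgn a ⁅p, u⁆ :=
      sum_nbij' (·⁻¹) (·⁻¹) (fun p hp => (memQ _).2 (inv_mem ((memQ p).1 hp)))
        (fun p hp => (memQ _).2 (inv_mem ((memQ p).1 hp))) (fun p _ => inv_inv p)
        (fun p _ => inv_inv p) fun p _ => rfl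
    rw [hinv]
    split_ifs with huR
    · rw [sum_congr rfl fun p hp => (mem_filter.1 huR).2 p hp, sum_const, hQc]; norm_num
    · obtain ⟨p₀, hp₀, hne⟩ : ∃ p₀ ∈ Q, sgn a ⁅p₀, u⁆ ≠ 1 := by
        by_contra hh
        push Not at hh
        exact huR (mem_filter.2 ⟨hu, hh⟩)
      have hm : sgn a ⁅p₀, u⁆ = -1 := (sgn_pm _ _).resolve_left hne
      have hshift : ∑ p ∈ Q, sgn a ⁅p, u⁆ = ∑ p ∈ Q, -sgn a ⁅p, u⁆ := by
        refine sum_nbij' (fun p => p₀⁻¹ * p) (fun p => p₀ * p)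
          (fun p hp => (memQ _).2 (mul_mem (inv_mem ((memQ _).1 hp₀)) ((memQ p).1 hp)))
          (fun p hp => (memQ _).2 (mul_mem ((memQ _).1 hp₀) ((memQ p).1 hp)))
          (fun p _ => by group) (fun p _ => by group) fun p hp => ?_
        rw [memQ] at hp hu hp₀
        conv_lhs => rw [show p = p₀ * (p₀⁻¹ * p) by group]
        rw [S.comm_mul_left hp₀ (mul_mem (inv_mem hp₀) hp) hu,
          S.sgn_mul ha ha1 (S.comm_mem (mul_mem (inv_mem hp₀) hp) hu) (S.comm_mem hp₀ hu), hm]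
        ring
      rw [sum_neg_distrib] at hshift
      omega
  have hRsum : ∑ u ∈ R, sgn a (u * u) = 4 := by
    have hsq : T a * T a = 64 * ∑ u ∈ R, sgn a (u * u) := by
      calc T a * T a = ∑ p ∈ Q, ∑ u ∈ Q, sgn a (p * p) * sgn a (p * u * (p * u)) := by
            show (∑ p ∈ Q, sgn a (p * p)) * (∑ p ∈ Q, sgn a (p * p)) = _
            rw [sum_mul_sum]
            refine sum_congr rfl fun p hp => ?_
            exact sum_nbij' (fun u => p⁻¹ * u) (fun u => p * u)
              (fun u hu => (memQ _).2 (mul_mem (inv_mem ((memQ p).1 hp)) ((memQ u).1 hu)))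
              (fun u hu => (memQ _).2 (mul_mem ((memQ p).1 hp) ((memQ u).1 hu)))
              (fun u _ => by group) (fun u _ => by group) fun u _ => by rw [mul_inv_cancel_left]
        _ = ∑ u ∈ Q, sgn a (u * u) * ∑ p ∈ Q, sgn a ⁅p⁻¹, u⁆ := by
            rw [sum_comm]
            refine sum_congr rfl fun u hu => ?_
            rw [mul_sum]
            exact sum_congr rfl fun p hp => hmul p hp u hu
        _ = ∑ u ∈ Q, (if u ∈ R then 64 * sgn a (u * u) else 0) := by
            refine sum_congr rfl fun u hu => ?_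
            rw [hinner u hu]; split_ifs <;> ring
        _ = _ := by
            rw [← sum_filter, mul_sum]
            refine sum_congr ?_ fun _ _ => rfl
            ext u
            simp [hR]
    rw [hTa] at hsq
    omega
  have hAR : ∀ z ∈ S.omega, z ∈ R := fun z hz => mem_filter.2 ⟨(memQ z).2 hz.1, fun p hp => by
    rw [commutatorElement_eq_one_iff_mul_comm.2 (S.comm_omega hz ((memQ p).1 hp)).symm, sgn_one]⟩
  have hxR : x ∈ R := by
    refine mem_filter.2 ⟨(memQ x).2 hx, fun p hp => if_pos ?_⟩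
    by_cases e : ⁅p, x⁆ = 1
    · exact Or.inl e
    · exact Or.inr (hcon p ((memQ p).1 hp) e)
  by_cases hr : ∃ r ∈ R, sgn a (r * r) ≠ 1
  · obtain ⟨r, hrR, hr1⟩ := hr
    have hrm : sgn a (r * r) = -1 := (sgn_pm _ _).resolve_left hr1
    obtain ⟨hrQ, hr2⟩ := mem_filter.1 hrR
    have hRmul : ∀ u ∈ R, ∀ v ∈ R, u * v ∈ R := fun u hu v hv => by
      obtain ⟨huQ, hu2⟩ := mem_filter.1 hu
      obtain ⟨hvQ, hv2⟩ := mem_filter.1 hv
      refine mem_filter.2 ⟨(memQ _).2 (mul_mem ((memQ u).1 huQ) ((memQ v).1 hvQ)), fun p hp => ?_⟩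
      rw [S.comm_mul_right ((memQ p).1 hp) ((memQ u).1 huQ) ((memQ v).1 hvQ),
        S.sgn_mul ha ha1 (S.comm_mem ((memQ p).1 hp) ((memQ u).1 huQ))
          (S.comm_mem ((memQ p).1 hp) ((memQ v).1 hvQ)), hu2 p hp, hv2 p hp, one_mul]
    have hRinv : r⁻¹ ∈ R := by
      obtain ⟨n, hn⟩ : ∃ n : ℕ, r ^ n = r⁻¹ := ⟨orderOf r - 1, by
        rw [eq_inv_iff_mul_eq_one, ← pow_succ, Nat.sub_add_cancel (orderOf_pos r), pow_orderOf_eq_one]⟩
      rw [← hn]
      clear hn
      induction n with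
      | zero => rw [pow_zero]; exact hAR 1 S.omega.one_mem
      | succ n ih => rw [pow_succ]; exact hRmul _ ih _ hrR
    have hshift : ∑ u ∈ R, sgn a (u * u) = ∑ u ∈ R, -sgn a (u * u) := by
      refine sum_nbij' (fun u => r⁻¹ * u) (fun u => r * u) (fun u hu => hRmul _ hRinv _ hu)
        (fun u hu => hRmul _ hrR _ hu) (fun u _ => by group) (fun u _ => by group) fun u hu => ?_
      have hv := hRmul _ hRinv _ hu
      have e := hmul r hrQ (r⁻¹ * u) (mem_filter.1 hv).1
      rw [mul_inv_cancel_left, hrm,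
        (mem_filter.1 hv).2 r⁻¹ ((memQ _).2 (inv_mem ((memQ r).1 hrQ))), mul_one] at e
      linear_combination -e
    rw [sum_neg_distrib] at hshift
    omega
  · push Not at hr
    rw [sum_congr rfl hr, sum_const] at hRsum
    have hsub : insert x (univ.filter fun z => z ∈ S.omega) ⊆ R := by
      intro z hz
      rcases mem_insert.1 hz with rfl | hz'
      · exact hxR
      · exact hAR z (mem_filter.1 hz').2
    have hle := card_le_card hsub
    rw [card_insert_of_notMem (by simp [mem_omega, hx2]), ← Fintype.card_subtype,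
      ← Nat.card_eq_fintype_card] at hle
    have hc4 : Nat.card {z : G // z ∈ S.omega} = 4 := S.card_omega
    simp only [nsmul_eq_mul, mul_one] at hRsum
    norm_cast at hRsum
    omega

end U34

end H83.GI
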