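import Mathlib

/-!
Integer facts for the principal block of a group with a Sylow 2-subgroup of U₃(4) type (helper83):
five signed triples meeting in pairs, and the degree equation.
-/

set_option autoImplicit false
set_option linter.unusedSectionVars false

namespace H83.GI

open Finset

section Sunflower

variable {α : Type*} [DecidableEq α]

/-- An integral vector of square norm three has three entries `±1`. -/
theorem norm_three {s : Finset α} {f : α → ℤ} (h : ∑ x ∈ s, f x * f x = 3) :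
    (∀ x ∈ s, f x = 0 ∨ f x = 1 ∨ f x = -1) ∧ (s.filter fun x => f x ≠ 0).card = 3 := by
  have hall : ∀ x ∈ s, f x = 0 ∨ f x = 1 ∨ f x = -1 := by
    intro x hx
    have h1 : f x * f x ≤ 3 := h ▸ single_le_sum (fun y _ => mul_self_nonneg (f y)) hx
    have h2 : -2 < f x := by nlinarith
    have h3 : f x < 2 := by nlinarith
    omega
  refine ⟨hall, ?_⟩
  have h1 : ∀ x ∈ s, f x * f x = if f x ≠ 0 then 1 else 0 := fun x hx => by
    rcases hall x hx with e | e | e <;> simp [e]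
  rw [sum_congr rfl h1, sum_boole] at h
  exact_mod_cast h

/-- Two such vectors with product two agree on two common entries and nowhere else. -/
theorem dot_two {s : Finset α} {f g : α → ℤ} (hf : ∑ x ∈ s, f x * f x = 3)
    (hg : ∑ x ∈ s, g x * g x = 3) (h : ∑ x ∈ s, f x * g x = 2) :
    ((s.filter fun x => f x ≠ 0) ∩ (s.filter fun x => g x ≠ 0)).card = 2 ∧
      ∀ x ∈ s, f x ≠ 0 → g x ≠ 0 → g x = f x := by
  obtain ⟨hf1, hf3⟩ := norm_three hf
  obtain ⟨hg1, -⟩ := norm_three hg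
  set I := (s.filter fun x => f x ≠ 0) ∩ (s.filter fun x => g x ≠ 0)
  have hsub : I ⊆ s := fun x hx => (mem_filter.1 (mem_inter.1 hx).1).1
  have hI : ∑ x ∈ I, f x * g x = 2 := by
    rw [← h]
    refine sum_subset hsub fun x hx hxI => ?_
    by_contra hne
    exact hxI (mem_inter.2 ⟨mem_filter.2 ⟨hx, left_ne_zero_of_mul hne⟩,
      mem_filter.2 ⟨hx, right_ne_zero_of_mul hne⟩⟩)
  have hpm : ∀ x ∈ I, f x * g x = 1 ∨ f x * g x = -1 := by
    intro x hx
    obtain ⟨hxs, hfx⟩ := mem_filter.1 (mem_inter.1 hx).1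
    have hgx := (mem_filter.1 (mem_inter.1 hx).2).2
    rcases hf1 x hxs with e | e | e <;> rcases hg1 x hxs with e' | e' | e' <;> simp_all
  have hle : I.card ≤ 3 := hf3 ▸ card_le_card inter_subset_left
  have hneg : ∀ x ∈ I, f x * g x = 1 - 2 * (if f x * g x = -1 then 1 else 0) := fun x hx => by
    rcases hpm x hx with e | e <;> simp [e]
  rw [sum_congr rfl hneg, sum_sub_distrib, ← mul_sum, sum_boole] at hI
  simp only [sum_const, nsmul_eq_mul, mul_one] at hI
  have hfil := card_filter_le I fun x => f x * g x = -1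
  have hI' : (I.card : ℤ) - 2 * ((I.filter fun x => f x * g x = -1).card : ℤ) = 2 := by
    exact_mod_cast hI
  have hz : I.card = 2 ∧ (I.filter fun x => f x * g x = -1).card = 0 := by omega
  refine ⟨hz.1, fun x hx hfx hgx => ?_⟩
  have hxI : x ∈ I := mem_inter.2 ⟨mem_filter.2 ⟨hx, hfx⟩, mem_filter.2 ⟨hx, hgx⟩⟩
  have hne : f x * g x ≠ -1 := (filter_eq_empty_iff.1 (card_eq_zero.1 hz.2)) hxI
  rcases hf1 x hx with e | e | e <;> rcases hg1 x hx with e' | e' | e' <;>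
    first | exact absurd e hfx | exact absurd e' hgx | (rw [e, e']; done) | exact absurd (by rw [e, e']; norm_num) hne

/-- Five triples meeting in pairs have a common pair. -/
theorem common_pair {β : Type*} [DecidableEq β] (F : Finset β) (T : β → Finset α)
    (h5 : F.card = 5) (h3 : ∀ f ∈ F, (T f).card = 3)
    (h2 : ∀ f ∈ F, ∀ g ∈ F, f ≠ g → (T f ∩ T g).card = 2) :
    ∃ C : Finset α, C.card = 2 ∧ ∀ f ∈ F, C ⊆ T f := by
  have hinj : ∀ f ∈ F, ∀ g ∈ F, T f = T g → f = g := fun f hf g hg e => by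
    by_contra hne
    have := h2 f hf g hg hne
    rw [e, inter_self, h3 g hg] at this
    omega
  obtain ⟨f₁, hf₁, f₂, hf₂, h12⟩ := one_lt_card.1 (show 1 < F.card by omega)
  set C := T f₁ ∩ T f₂ with hC
  have hC2 : C.card = 2 := h2 f₁ hf₁ f₂ hf₂ h12
  refine ⟨C, hC2, ?_⟩
  set U := T f₁ ∪ T f₂ with hU
  have hU4 : U.card = 4 := by
    have := card_union_add_card_inter (T f₁) (T f₂)
    rw [← hC, hC2, h3 f₁ hf₁, h3 f₂ hf₂] at this
    rw [hU]; omega
  -- a triple without the pair lies in the union of the first two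
  have hbad : ∀ g ∈ F, ¬ C ⊆ T g → T g ⊆ U := by
    intro g hg hns
    have hg1 : g ≠ f₁ := fun e => hns (e ▸ inter_subset_left)
    have hg2 : g ≠ f₂ := fun e => hns (e ▸ inter_subset_right)
    have a1 := h2 g hg f₁ hf₁ hg1
    have a2 := h2 g hg f₂ hf₂ hg2
    have hlt : (T g ∩ C).card < 2 := by
      rw [← hC2]
      exact card_lt_card ⟨inter_subset_right, fun h => hns fun x hx => (mem_inter.1 (h hx)).1⟩
    have hsum := card_union_add_card_inter (T g ∩ T f₁) (T g ∩ T f₂)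
    rw [← inter_union_distrib_left, ← inter_inter_distrib_left, ← hC, ← hU, a1, a2] at hsum
    have hle : (T g ∩ U).card ≤ (T g).card := card_le_card inter_subset_left
    have h3g := h3 g hg
    have : T g ∩ U = T g := eq_of_subset_of_card_le inter_subset_left (by omega)
    exact this ▸ inter_subset_right
  by_contra hcon
  push Not at hcon
  obtain ⟨f₃, hf₃, hns⟩ := hcon
  -- then all five triples lie in a set of four
  have hall : ∀ g ∈ F, T g ⊆ U := by
    intro g hg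
    by_cases hgC : C ⊆ T g
    · by_cases hg3 : g = f₃
      · exact absurd (hg3 ▸ hgC) hns
      intro x hx
      by_contra hxU
      have hxC : x ∉ C := fun h => hxU (mem_union_left _ (mem_inter.1 h).1)
      have hTg : T g = insert x C := by
        refine (eq_of_subset_of_card_le (insert_subset hx hgC) ?_).symm
        rw [h3 g hg, card_insert_of_notMem hxC, hC2]
      have h23 := h2 g hg f₃ hf₃ hg3
      have hx3 : x ∉ T f₃ := fun h => hxU (hbad f₃ hf₃ hns h)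
      rw [hTg, insert_inter_of_notMem hx3] at h23
      exact hns (by
        have := eq_of_subset_of_card_le (inter_subset_left (s₁ := C) (s₂ := T f₃)) (by omega)
        exact this ▸ inter_subset_right)
    · exact hbad g hg hgC
  have hle : (F.image T).card ≤ (U.powersetCard 3).card := card_le_card fun t ht => by
    obtain ⟨g, hg, rfl⟩ := mem_image.1 ht
    exact mem_powersetCard.2 ⟨hall g hg, h3 g hg⟩
  rw [card_image_of_injOn fun f hf g hg => hinj f hf g hg, h5, card_powersetCard, hU4] at hle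
  exact absurd hle (by decide)

/-- Five signed triples with products two: a common signed pair and five private entries. -/
theorem sunflower (s : Finset α) (F : Finset (α → ℤ)) (h5 : F.card = 5)
    (hsq : ∀ f ∈ F, ∑ x ∈ s, f x * f x = 3)
    (hdot : ∀ f ∈ F, ∀ g ∈ F, f ≠ g → ∑ x ∈ s, f x * g x = 2) :
    ∃ b ∈ s, ∃ c ∈ s, b ≠ c ∧ ∃ eb ec : ℤ, (eb = 1 ∨ eb = -1) ∧ (ec = 1 ∨ ec = -1) ∧
      ∀ f ∈ F, f b = eb ∧ f c = ec ∧ ∃ x ∈ s, x ≠ b ∧ x ≠ c ∧ (f x = 1 ∨ f x = -1) ∧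
        (∀ y ∈ s, y ≠ x → y ≠ b → y ≠ c → f y = 0) ∧ ∀ g ∈ F, g ≠ f → g x = 0 := by
  classical
  obtain ⟨C, hC2, hC⟩ := common_pair F (fun f => s.filter fun x => f x ≠ 0) h5
    (fun f hf => (norm_three (hsq f hf)).2)
    (fun f hf g hg hne => (dot_two (hsq f hf) (hsq g hg) (hdot f hf g hg hne)).1)
  obtain ⟨b, c, hbc, rfl⟩ := card_eq_two.1 hC2
  obtain ⟨f₀, hf₀⟩ := card_pos.1 (show 0 < F.card by omega)
  have hb := fun f hf => mem_filter.1 (hC f hf (mem_insert_self b {c}))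
  have hc := fun f hf => mem_filter.1 (hC f hf (mem_insert_of_mem (mem_singleton_self c)))
  have hv : ∀ f ∈ F, ∀ y ∈ s, f y ≠ 0 → f y = 1 ∨ f y = -1 := fun f hf y hy h =>
    ((norm_three (hsq f hf)).1 y hy).resolve_left h
  refine ⟨b, (hb f₀ hf₀).1, c, (hc f₀ hf₀).1, hbc, f₀ b, f₀ c,
    hv f₀ hf₀ b (hb f₀ hf₀).1 (hb f₀ hf₀).2, hv f₀ hf₀ c (hc f₀ hf₀).1 (hc f₀ hf₀).2,
    fun f hf => ?_⟩
  have hsame : ∀ y ∈ s, f₀ y ≠ 0 → f y ≠ 0 → f y = f₀ y := fun y hy h0 h1 => by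
    by_cases e : f = f₀
    · rw [e]
    · exact (dot_two (hsq f₀ hf₀) (hsq f hf) (hdot f₀ hf₀ f hf (Ne.symm e))).2 y hy h0 h1
  refine ⟨hsame b (hb f₀ hf₀).1 (hb f₀ hf₀).2 (hb f hf).2,
    hsame c (hc f₀ hf₀).1 (hc f₀ hf₀).2 (hc f hf).2, ?_⟩
  have hcard : ((s.filter fun x => f x ≠ 0) \ {b, c}).card = 1 := by
    rw [card_sdiff_of_subset (hC f hf), (norm_three (hsq f hf)).2, hC2]
  obtain ⟨x, hx⟩ := card_eq_one.1 hcard
  have hxm : x ∈ (s.filter fun y => f y ≠ 0) \ {b, c} := hx ▸ mem_singleton_self x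
  simp only [mem_sdiff, mem_filter, mem_insert, mem_singleton, not_or] at hxm
  refine ⟨x, hxm.1.1, hxm.2.1, hxm.2.2, hv f hf x hxm.1.1 hxm.1.2, fun y hy hyx hyb hyc => ?_,
    fun g hg hne => ?_⟩
  · by_contra h
    have : y ∈ ({x} : Finset α) := hx ▸ (by simp [hy, h, hyb, hyc])
    exact hyx (mem_singleton.1 this)
  · by_contra h
    have h2 := (dot_two (hsq g hg) (hsq f hf) (hdot g hg f hf hne)).1
    have h3 : ({x, b, c} : Finset α) ⊆
        (s.filter fun y => g y ≠ 0) ∩ (s.filter fun y => f y ≠ 0) := by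
      intro y hy
      simp only [mem_insert, mem_singleton] at hy
      rcases hy with rfl | rfl | rfl
      · simp [hxm.1.1, h, hxm.1.2]
      · simp [(hb f hf).1, (hb f hf).2, (hb g hg).2]
      · simp [(hc f hf).1, (hc f hf).2, (hc g hg).2]
    have h4 := card_le_card h3
    rw [h2, card_insert_of_notMem (by simp [hxm.2.1, hxm.2.2]), card_pair hbc] at h4
    omega

end Sunflower

/-! ### The degree equation -/

theorem solve_one_one {d₁ d₂ : ℤ} (h1 : (64 : ℤ) ∣ d₁ - 1) (h2 : (64 : ℤ) ∣ d₂ - 1)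
    (h : 9 * (d₁ * d₂) = (1 + (d₁ + d₂)) * (d₁ * d₂ + (d₁ + d₂))) : d₁ + d₂ = 2 := by
  set s := d₁ + d₂ with hs
  have hd : (8 - s) ∣ (72 : ℤ) := ⟨d₁ * d₂ + s + 9, by linear_combination -h⟩
  have hle := Int.le_of_dvd (by norm_num) hd
  have hge := Int.le_of_dvd (by norm_num) ((neg_dvd).2 hd)
  have : s = -62 ∨ s = 2 ∨ s = 66 := by omega
  rcases this with e | e | e
  · rw [e] at hd; norm_num at hd
  · exact e
  · rw [e] at hd; norm_num at hd

theorem solve_one_neg {D d₁ d₂ : ℤ} (h1 : (64 : ℤ) ∣ d₁ - 1) (h2 : (64 : ℤ) ∣ d₂ - 13)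
    (hD : D = 1 + d₁ + d₂) (h : (1 : ℚ) / D = 1 + 1 / d₁ + 9 / d₂) : False := by
  have ha : (1 : ℚ) / D ≤ 1 / 15 := by
    rcases (show 15 ≤ D ∨ D ≤ -1 by omega) with hp | hn
    · exact one_div_le_one_div_of_le (by norm_num) (by exact_mod_cast hp)
    · have : (D : ℚ) < 0 := by exact_mod_cast (show D < 0 by omega)
      exact (div_nonpos_of_nonneg_of_nonpos zero_le_one this.le).trans (by norm_num)
  have hb : -(1 / 63 : ℚ) ≤ 1 / d₁ := by
    rcases (show 0 < d₁ ∨ d₁ ≤ -63 by omega) with hp | hn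
    · exact le_trans (by norm_num) (div_nonneg zero_le_one (by exact_mod_cast hp.le))
    · have hn' : (d₁ : ℚ) ≤ -63 := by exact_mod_cast hn
      rw [le_div_iff_of_neg (by linarith)]
      linarith
  have hc : -(9 / 51 : ℚ) ≤ 9 / d₂ := by
    rcases (show 0 < d₂ ∨ d₂ ≤ -51 by omega) with hp | hn
    · exact le_trans (by norm_num) (div_nonneg (by norm_num) (by exact_mod_cast hp.le))
    · have hn' : (d₂ : ℚ) ≤ -51 := by exact_mod_cast hn
      rw [le_div_iff_of_neg (by linarith)]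
      linarith
  linarith

/-- The only solution has degree three. -/
theorem degree_three {D d₁ d₂ U₁ U₂ X : ℤ} (hX : X = 1 + U₁ + U₂) (hD : D = 1 + d₁ + d₂)
    (hD0 : D ≠ 0) (hd₁ : d₁ ≠ 0) (hd₂ : d₂ ≠ 0)
    (hb : 1 + U₁ * U₁ + U₂ * U₂ + 5 * (X * X) ≤ 64) (hu₁ : (4 : ℤ) ∣ U₁ - 1)
    (hu₂ : (4 : ℤ) ∣ U₂ - 1) (c₁ : (64 : ℤ) ∣ d₁ + 3 * U₁ - 4) (c₂ : (64 : ℤ) ∣ d₂ + 3 * U₂ - 4)
    (hid : ((X : ℚ) * X) / D = 1 + (U₁ : ℚ) * U₁ / d₁ + (U₂ : ℚ) * U₂ / d₂) :
    D = 3 ∧ X = 3 := by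
  have hX2 : -3 ≤ X ∧ X ≤ 3 := ⟨by nlinarith, by nlinarith⟩
  have hU : -7 ≤ U₁ ∧ U₁ ≤ 7 := ⟨by nlinarith, by nlinarith⟩
  have hcase : X = 3 ∧ U₁ = 1 ∧ U₂ = 1 ∨ X = -1 ∧ U₁ = 1 ∧ U₂ = -3 ∨
      X = -1 ∧ U₁ = -3 ∧ U₂ = 1 := by
    have hX3 : X = 3 ∨ X = -1 := by omega
    have hU4 : U₁ = -7 ∨ U₁ = -3 ∨ U₁ = 1 ∨ U₁ = 5 := by omega
    have hU2 : U₂ = X - 1 - U₁ := by omega
    rcases hX3 with e | e <;> rcases hU4 with e' | e' | e' | e' <;>
      subst hU2 <;> subst e <;> subst e' <;> omega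
  rcases hcase with ⟨rfl, rfl, rfl⟩ | ⟨rfl, rfl, rfl⟩ | ⟨rfl, rfl, rfl⟩
  · refine ⟨?_, rfl⟩
    have hD' : (D : ℚ) ≠ 0 := by exact_mod_cast hD0
    have h1' : (d₁ : ℚ) ≠ 0 := by exact_mod_cast hd₁
    have h2' : (d₂ : ℚ) ≠ 0 := by exact_mod_cast hd₂
    field_simp at hid
    have hq : (9 * (d₁ * d₂) : ℚ) = D * (d₁ * d₂ + (d₁ + d₂)) := by
      push_cast at hid ⊢
      linear_combination hid
    have hz : 9 * (d₁ * d₂) = (1 + (d₁ + d₂)) * (d₁ * d₂ + (d₁ + d₂)) := by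
      rw [show 1 + (d₁ + d₂) = D by omega]
      exact_mod_cast hq
    have := solve_one_one (by omega) (by omega) hz
    omega
  · exact (solve_one_neg (D := D) (by omega) (by omega) hD (by push_cast at hid; linarith)).elim
  · exact (solve_one_neg (D := D) (d₁ := d₂) (d₂ := d₁) (by omega) (by omega) (by omega)
      (by push_cast at hid; linarith)).elim

end H83.GI
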