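import Cfsg.Prelude.Def_Transfer
import Mathlib

/-!
The local setting of a Sylow 2-subgroup of U₃(4) type with nilpotent centralizers of involutions
(helper83): fusion, centralizers, products of involutions, non-degeneracy of the commutator.
-/

set_option autoImplicit false
set_option linter.unusedSectionVars false
set_option linter.style.haveILetI false

namespace H83.GI

open Subgroup
open scoped commutatorElement

universe u

variable {G : Type u} [Group G] [Finite G]

/-- A Sylow 2-subgroup `P` of order 64 with three involutions, central in `P` and permuted by `h`,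
all involution centralizers having a normal 2-complement. -/
structure U34 (P : Sylow 2 G) (h : G) : Prop where
  card : Nat.card (P : Subgroup G) = 64
  four : Nat.card {x : (P : Subgroup G) // x * x = 1} = 4
  cent : ∀ x ∈ P, x * x = 1 → ∀ y ∈ P, x * y = y * x
  sq : ∀ x ∈ P, x * x * (x * x) = 1
  comm : ∀ x ∈ P, ∀ y ∈ P, ⁅x, y⁆ * ⁅x, y⁆ = 1
  nilp : ∀ x : G, orderOf x = 2 → Cfsg.HasNormalPComplement 2 ↥(centralizer ({x} : Set G))
  norm : h ∈ normalizer ((P : Subgroup G) : Set G)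
  move : ∀ x ∈ P, x * x = 1 → x ≠ 1 → h * x * h⁻¹ ≠ x

namespace U34

variable {P : Sylow 2 G} {h : G} (S : U34 P h)
include S

/-- The four-group of involutions of `P`. -/
def omega : Subgroup G where
  carrier := {x | x ∈ P ∧ x * x = 1}
  one_mem' := ⟨(P : Subgroup G).one_mem, one_mul 1⟩
  mul_mem' := fun {a b} ha hb => ⟨(P : Subgroup G).mul_mem ha.1 hb.1, by
    rw [mul_assoc, ← mul_assoc b, ← S.cent a ha.1 ha.2 b hb.1, mul_assoc, hb.2, mul_one, ha.2]⟩
  inv_mem' := fun {a} ha => ⟨(P : Subgroup G).inv_mem ha.1, by rw [← mul_inv_rev, ha.2, inv_one]⟩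

theorem mem_omega {x : G} : x ∈ S.omega ↔ x ∈ P ∧ x * x = 1 := Iff.rfl

theorem omega_le : S.omega ≤ (P : Subgroup G) := fun _ hx => hx.1

theorem card_omega : Nat.card S.omega = 4 := by
  rw [← S.four]
  exact Nat.card_congr
    { toFun := fun x => ⟨⟨x, x.2.1⟩, Subtype.ext x.2.2⟩
      invFun := fun x => ⟨x.1, x.1.2, congrArg Subtype.val x.2⟩
      left_inv := fun x => rfl
      right_inv := fun x => rfl }

theorem comm_omega {a y : G} (ha : a ∈ S.omega) (hy : y ∈ P) : a * y = y * a :=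
  S.cent a ha.1 ha.2 y hy

theorem sq_mem {x : G} (hx : x ∈ P) : x * x ∈ S.omega :=
  ⟨(P : Subgroup G).mul_mem hx hx, S.sq x hx⟩

theorem comm_mem {x y : G} (hx : x ∈ P) (hy : y ∈ P) : ⁅x, y⁆ ∈ S.omega :=
  ⟨commutatorElement_def x y ▸ mul_mem (mul_mem (mul_mem hx hy) (inv_mem hx)) (inv_mem hy),
    S.comm x hx y hy⟩

theorem inv_omega {a : G} (ha : a ∈ S.omega) : a⁻¹ = a := inv_eq_of_mul_eq_one_right ha.2

theorem orderOf_omega {a : G} (ha : a ∈ S.omega) (ha1 : a ≠ 1) : orderOf a = 2 :=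
  orderOf_eq_prime (by rw [pow_two]; exact ha.2) ha1

theorem conj_mem (i : ℕ) {x : G} (hx : x ∈ P) : h ^ i * x * (h ^ i)⁻¹ ∈ P :=
  (mem_set_normalizer_iff.1 (pow_mem S.norm i) x).1 hx

theorem inv_conj_mem (i : ℕ) {x : G} (hx : x ∈ P) : (h ^ i)⁻¹ * x * h ^ i ∈ P := by
  have := (mem_set_normalizer_iff.1 (inv_mem (pow_mem S.norm i)) x).1 hx
  rwa [inv_inv] at this

theorem conj_omega (i : ℕ) {a : G} (ha : a ∈ S.omega) : h ^ i * a * (h ^ i)⁻¹ ∈ S.omega :=
  ⟨S.conj_mem i ha.1, by rw [conj_mul, ha.2, mul_one, mul_inv_cancel]⟩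

/-- The three involutions of `P` form one cycle of `h`. -/
theorem cycle {a : G} (ha : a ∈ S.omega) (ha1 : a ≠ 1) :
    h * a * h⁻¹ ≠ a ∧ h ^ 2 * a * (h ^ 2)⁻¹ ≠ a ∧ h ^ 3 * a * (h ^ 3)⁻¹ = a ∧
      ∀ b ∈ S.omega, b ≠ 1 → b = a ∨ b = h * a * h⁻¹ ∨ b = h ^ 2 * a * (h ^ 2)⁻¹ := by
  classical
  set b := h * a * h⁻¹ with hb
  set c := h ^ 2 * a * (h ^ 2)⁻¹ with hc
  have hbc : c = h * b * h⁻¹ := by rw [hc, hb, pow_two]; group
  have hbA : b ∈ S.omega := by simpa using S.conj_omega 1 ha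
  have hcA : c ∈ S.omega := S.conj_omega 2 ha
  have hab : b ≠ a := S.move a ha.1 ha.2 ha1
  have hb1 : b ≠ 1 := fun e => ha1 (conj_eq_one_iff.1 e)
  have hc1 : c ≠ 1 := fun e => ha1 (conj_eq_one_iff.1 e)
  have hcb : c ≠ b := hbc ▸ S.move b hbA.1 hbA.2 hb1
  have hca : c ≠ a := fun e => by
    refine S.move (a * b) (S.omega.mul_mem ha hbA).1 (S.omega.mul_mem ha hbA).2 ?_ ?_
    · rw [Ne, mul_eq_one_iff_eq_inv, S.inv_omega hbA]
      exact Ne.symm hab
    · rw [show h * (a * b) * h⁻¹ = h * a * h⁻¹ * (h * b * h⁻¹) by group, ← hb, ← hbc, e,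
        S.comm_omega hbA ha.1]
  have hall : ∀ d ∈ S.omega, d ≠ 1 → d = a ∨ d = b ∨ d = c := by
    intro d hd hd1
    haveI := Fintype.ofFinite G
    set T : Finset G := Finset.univ.filter fun x => x ∈ S.omega with hT
    have hTc : T.card = 4 := by
      rw [← S.card_omega, Nat.card_eq_fintype_card]
      exact (Fintype.card_subtype _).symm
    have hsub : ({1, a, b, c} : Finset G) ⊆ T := by
      intro x hx
      simp only [Finset.mem_insert, Finset.mem_singleton] at hx
      simp only [hT, Finset.mem_filter, Finset.mem_univ, true_and]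
      rcases hx with rfl | rfl | rfl | rfl
      exacts [one_mem _, ha, hbA, hcA]
    have heq := Finset.eq_of_subset_of_card_le hsub (by
      rw [hTc, Finset.card_insert_of_notMem (by simp [Ne.symm ha1, Ne.symm hb1, Ne.symm hc1]),
        Finset.card_insert_of_notMem (by simp [Ne.symm hab, Ne.symm hca]),
        Finset.card_pair (Ne.symm hcb)])
    have : d ∈ T := by simp [hT, hd]
    rw [← heq] at this
    simpa [hd1] using this
  refine ⟨hab, hca, ?_, hall⟩
  have hd : h ^ 3 * a * (h ^ 3)⁻¹ = h * c * h⁻¹ := by rw [hc]; group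
  rw [hd]
  rcases hall (h * c * h⁻¹) (by simpa using S.conj_omega 1 hcA) (fun e => hc1 (conj_eq_one_iff.1 e))
    with e | e | e
  · exact e
  · exact absurd (mul_left_cancel (mul_right_cancel (e.trans hb))) hca
  · exact absurd (mul_left_cancel (mul_right_cancel (e.trans hbc))) hcb

theorem exists_pow {a b : G} (ha : a ∈ S.omega) (ha1 : a ≠ 1) (hb : b ∈ S.omega) (hb1 : b ≠ 1) :
    ∃ i : Fin 3, h ^ (i : ℕ) * a * (h ^ (i : ℕ))⁻¹ = b := by
  rcases (S.cycle ha ha1).2.2.2 b hb hb1 with e | e | e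
  · exact ⟨0, by simp [e]⟩
  · exact ⟨1, by simp [e]⟩
  · exact ⟨2, by simp [e]⟩

theorem pow_inj {a : G} (ha : a ∈ S.omega) (ha1 : a ≠ 1) {i j : Fin 3}
    (e : h ^ (i : ℕ) * a * (h ^ (i : ℕ))⁻¹ = h ^ (j : ℕ) * a * (h ^ (j : ℕ))⁻¹) : i = j := by
  obtain ⟨h1, h2, -, -⟩ := S.cycle ha ha1
  have h12 : h ^ 2 * a * (h ^ 2)⁻¹ ≠ h * a * h⁻¹ := fun e' => h1 (by
    have e'' : h * (h * a * h⁻¹) * h⁻¹ = h * a * h⁻¹ :=
      Eq.trans (by rw [pow_two]; group) e'
    exact mul_left_cancel (mul_right_cancel e''))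
  fin_cases i <;> fin_cases j <;> simp at e ⊢
  all_goals first
    | exact absurd e h1
    | exact absurd e.symm h1
    | exact absurd e h2
    | exact absurd e.symm h2
    | exact absurd e h12
    | exact absurd e.symm h12

theorem exists_sq {a : G} (ha : a ∈ S.omega) : ∃ v ∈ P, v * v = a := by
  by_cases ha1 : a = 1
  · exact ⟨1, (P : Subgroup G).one_mem, by rw [ha1, one_mul]⟩
  obtain ⟨x, hx, hx2⟩ : ∃ x ∈ P, x * x ≠ 1 := by
    by_contra hcon
    push Not at hcon
    have := Subgroup.card_le_of_le (show (P : Subgroup G) ≤ S.omega from fun x hx => ⟨hx, hcon x hx⟩)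
    rw [S.card, S.card_omega] at this
    omega
  obtain ⟨i, hi⟩ := S.exists_pow (S.sq_mem hx) hx2 ha ha1
  exact ⟨_, S.conj_mem i hx, by rw [conj_mul]; exact hi⟩

/-! ### Centralizers of involutions -/

theorem le_centralizer_omega {a : G} (ha : a ∈ S.omega) :
    (P : Subgroup G) ≤ centralizer ({a} : Set G) :=
  fun _ hy => mem_centralizer_singleton_iff.2 (S.comm_omega ha hy).symm

/-- The projection of the centralizer of an involution onto `P`. -/
theorem exists_proj {a : G} (ha : a ∈ S.omega) (ha1 : a ≠ 1) :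
    ∃ φ : ↥(centralizer ({a} : Set G)) →* ↥(P : Subgroup G),
      (∀ x : ↥(centralizer ({a} : Set G)), ∀ hx : (x : G) ∈ P, φ x = ⟨x, hx⟩) ∧
      Odd (Nat.card φ.ker) := by
  haveI : Fact (Nat.Prime 2) := ⟨Nat.prime_two⟩
  set C := centralizer ({a} : Set G) with hC
  obtain ⟨Q, N, hN, hNQ⟩ := S.nilp a (S.orderOf_omega ha ha1)
  haveI := hN
  set P' : Sylow 2 C := P.subtype (S.le_centralizer_omega ha)
  have hidx : Q.index = Nat.card N := hNQ.index_eq_card
  have hNodd : Odd (Nat.card N) := by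
    rw [← hidx, Nat.odd_iff, ← Nat.two_dvd_ne_zero]
    exact Q.not_dvd_index
  have hcomp : IsComplement' N (P' : Subgroup C) := by
    refine isComplement'_of_coprime ?_ ?_
    · rw [Sylow.card_eq_multiplicity, ← Sylow.card_eq_multiplicity Q]
      exact hNQ.card_mul_card
    · rw [Sylow.card_eq_multiplicity]
      exact (Nat.coprime_two_right.2 hNodd).pow_right _
  set f := (QuotientGroup.mk' N).comp (P' : Subgroup C).subtype with hf
  have hbij : Function.Bijective f := by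
    refine ⟨(injective_iff_map_eq_one f).2 fun x hx => ?_, fun q => ?_⟩
    · have h1 : (x : C) ∈ N ⊓ (P' : Subgroup C) := ⟨(QuotientGroup.eq_one_iff _).1 hx, x.2⟩
      rw [hcomp.disjoint.eq_bot, mem_bot] at h1
      exact Subtype.ext h1
    · obtain ⟨g, rfl⟩ := QuotientGroup.mk'_surjective N q
      obtain ⟨⟨n, p⟩, hnp⟩ := hcomp.2 g
      refine ⟨p, ?_⟩
      simp only at hnp
      rw [← hnp, map_mul, show QuotientGroup.mk' N (n : C) = 1 from
        (QuotientGroup.eq_one_iff _).2 n.2, one_mul]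
      rfl
  set ι : ↥(P' : Subgroup C) →* ↥(P : Subgroup G) :=
    (C.subtype.comp (P' : Subgroup C).subtype).codRestrict (P : Subgroup G) fun x => x.2 with hι
  set φ := ι.comp (((MulEquiv.ofBijective f hbij).symm.toMonoidHom).comp (QuotientGroup.mk' N))
  refine ⟨φ, fun x hx => ?_, ?_⟩
  · have e : (MulEquiv.ofBijective f hbij).symm (QuotientGroup.mk' N x) =
        (⟨x, hx⟩ : ↥(P' : Subgroup C)) := by
      rw [MulEquiv.symm_apply_eq]
      rfl
    show ι ((MulEquiv.ofBijective f hbij).symm (QuotientGroup.mk' N x)) = _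
    rw [e]
    rfl
  · have hk : φ.ker = N := by
      ext x
      rw [MonoidHom.mem_ker]
      show ι ((MulEquiv.ofBijective f hbij).symm (QuotientGroup.mk' N x)) = 1 ↔ _
      have hinj : Function.Injective ι := fun u v e =>
        Subtype.ext (Subtype.ext (congrArg (fun z => ((z : ↥(P : Subgroup G)) : G)) e))
      rw [← map_one ι, hinj.eq_iff, ← map_one (MulEquiv.ofBijective f hbij).symm,
        (MulEquiv.ofBijective f hbij).symm.injective.eq_iff]
      exact QuotientGroup.eq_one_iff x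
    rw [hk]
    exact hNodd

/-- An element of order four of `P` is no power of a product of two involutions. -/
theorem no_products {x s t : G} (hx : x ∈ P) (hx2 : x * x ≠ 1) (hs : s * s = 1) (ht : t * t = 1)
    (hpow : x ∈ zpowers (s * t)) : False := by
  obtain ⟨φ, hφ, -⟩ := S.exists_proj (S.sq_mem hx) hx2
  obtain ⟨m, hm⟩ := mem_zpowers_iff.1 hpow
  have hs' : s⁻¹ = s := inv_eq_of_mul_eq_one_right hs
  have ht' : t⁻¹ = t := inv_eq_of_mul_eq_one_right ht
  have hinv : s * x * s⁻¹ = x⁻¹ := by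
    rw [← hm, ← conj_zpow, ← inv_zpow]
    congr 1
    rw [mul_inv_rev, hs', ht', ← mul_assoc, hs, one_mul]
  have hsC : s ∈ centralizer ({x * x} : Set G) := by
    rw [mem_centralizer_singleton_iff]
    calc s * (x * x) = s * x * s⁻¹ * (s * x * s⁻¹) * s := by group
      _ = x * x * s := by rw [hinv, ← mul_inv_rev, S.inv_omega (S.sq_mem hx)]
  have hgC : s * t ∈ centralizer ({x * x} : Set G) := by
    rw [mem_centralizer_singleton_iff, ← hm, ← zpow_add]
    exact ((Commute.refl (s * t)).zpow_right _).eq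
  have htC : t ∈ centralizer ({x * x} : Set G) := by
    have := mul_mem (inv_mem hsC) hgC
    rwa [inv_mul_cancel_left] at this
  have hmem : ∀ u : ↥(centralizer ({x * x} : Set G)), (u : G) * u = 1 →
      ((φ u : ↥(P : Subgroup G)) : G) ∈ S.omega := fun u hu => ⟨(φ u).2, by
    have e : φ u * φ u = 1 := by
      rw [← map_mul, show u * u = 1 from Subtype.ext hu, map_one]
    simpa using congrArg Subtype.val e⟩
  set g : ↥(centralizer ({x * x} : Set G)) := ⟨s, hsC⟩ * ⟨t, htC⟩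
  have hg : ((φ g : ↥(P : Subgroup G)) : G) ∈ S.omega := by
    rw [map_mul, Subgroup.coe_mul]
    exact mul_mem (hmem _ hs) (hmem _ ht)
  have hgm : ((g ^ m : ↥(centralizer ({x * x} : Set G))) : G) = x := by
    rw [SubgroupClass.coe_zpow]; exact hm
  have h1 := congrArg Subtype.val (hφ (g ^ m) (by rw [hgm]; exact hx))
  rw [map_zpow, SubgroupClass.coe_zpow] at h1
  have h2 : ((φ g : ↥(P : Subgroup G)) : G) ^ m ∈ S.omega := zpow_mem hg m
  rw [h1] at h2
  rw [hgm] at h2
  exact hx2 h2.2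

/-- Fusion in `P` is controlled by `P` and the powers of `h`. -/
theorem fusion {x g : G} (hx : x ∈ P) (hx2 : x * x ≠ 1) (hy : g * x * g⁻¹ ∈ P) :
    ∃ i : Fin 3, ∃ q ∈ P, g * x * g⁻¹ = h ^ (i : ℕ) * (q * x * q⁻¹) * (h ^ (i : ℕ))⁻¹ := by
  have hb : g * x * g⁻¹ * (g * x * g⁻¹) = g * (x * x) * g⁻¹ := conj_mul
  obtain ⟨i, hi⟩ := S.exists_pow (S.sq_mem hx) hx2 (S.sq_mem hy)
    (by rw [hb]; exact fun e => hx2 (conj_eq_one_iff.1 e))
  set k := h ^ (i : ℕ)
  set g' := k⁻¹ * g with hg'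
  rw [hb] at hi
  have hgC : g' ∈ centralizer ({x * x} : Set G) := by
    rw [mem_centralizer_singleton_iff, hg']
    calc k⁻¹ * g * (x * x) = k⁻¹ * (g * (x * x) * g⁻¹) * g := by group
      _ = k⁻¹ * (k * (x * x) * k⁻¹) * g := by rw [hi]
      _ = x * x * (k⁻¹ * g) := by group
  have hy' : g' * x * g'⁻¹ ∈ P := by
    have e : g' * x * g'⁻¹ = k⁻¹ * (g * x * g⁻¹) * k := by rw [hg']; group
    exact e ▸ S.inv_conj_mem i hy
  obtain ⟨φ, hφ, -⟩ := S.exists_proj (S.sq_mem hx) hx2
  set X : ↥(centralizer ({x * x} : Set G)) := ⟨x, S.le_centralizer_omega (S.sq_mem hx) hx⟩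
  set g₀ : ↥(centralizer ({x * x} : Set G)) := ⟨g', hgC⟩
  have h1 := hφ (g₀ * X * g₀⁻¹) hy'
  rw [map_mul, map_mul, map_inv, hφ X hx] at h1
  refine ⟨i, _, (φ g₀).2, ?_⟩
  have h2 := congrArg Subtype.val h1
  simp only [Subgroup.coe_mul, Subgroup.coe_inv] at h2
  rw [h2]
  show g * x * g⁻¹ = k * (g' * x * g'⁻¹) * k⁻¹
  rw [hg']
  group

/-- The centralizer of a nontrivial element of `P` is an odd normal subgroup times its part in
`P`. -/
theorem centralizer_complement {x : G} (hx : x ∈ P) (hx1 : x ≠ 1) :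
    ∃ K : Subgroup ↥(centralizer ({x} : Set G)), K.Normal ∧ Odd (Nat.card K) ∧
      K.index = Nat.card ↥((P : Subgroup G) ⊓ centralizer ({x} : Set G)) := by
  obtain ⟨a, ha, ha1, hle⟩ : ∃ a ∈ S.omega, a ≠ 1 ∧
      centralizer ({x} : Set G) ≤ centralizer ({a} : Set G) := by
    by_cases h2 : x * x = 1
    · exact ⟨x, ⟨hx, h2⟩, hx1, le_rfl⟩
    · refine ⟨x * x, S.sq_mem hx, h2, fun g hg => ?_⟩
      rw [mem_centralizer_singleton_iff] at hg ⊢
      rw [← mul_assoc, hg, mul_assoc, hg, mul_assoc]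
  obtain ⟨φ, hφ, hodd⟩ := S.exists_proj ha ha1
  set f := φ.comp (inclusion hle) with hf
  refine ⟨f.ker, inferInstance, ?_, ?_⟩
  · refine hodd.of_dvd_nat (Subgroup.card_dvd_of_injective
      ((inclusion hle).comp f.ker.subtype |>.codRestrict φ.ker fun z => z.2) ?_)
    intro u v e
    exact Subtype.ext (inclusion_injective hle (congrArg Subtype.val e))
  · rw [index_ker]
    have hX := hφ (inclusion hle ⟨x, mem_centralizer_singleton_iff.2 rfl⟩) hx
    refine Nat.card_congr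
      { toFun := fun z => ⟨z.1.1, z.1.2, ?_⟩
        invFun := fun y => ⟨⟨y.1, y.2.1⟩, ⟨⟨y.1, y.2.2⟩, hφ _ y.2.1⟩⟩
        left_inv := fun z => rfl
        right_inv := fun y => rfl }
    obtain ⟨w, hw⟩ := z.2
    show ((z.1 : ↥(P : Subgroup G)) : G) ∈ centralizer ({x} : Set G)
    rw [mem_centralizer_singleton_iff, ← hw]
    have e1 : f w * f ⟨x, mem_centralizer_singleton_iff.2 rfl⟩ =
        f ⟨x, mem_centralizer_singleton_iff.2 rfl⟩ * f w := by
      rw [← map_mul, ← map_mul]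
      exact congrArg f (Subtype.ext (mem_centralizer_singleton_iff.1 w.2))
    rw [show f ⟨x, mem_centralizer_singleton_iff.2 rfl⟩ = ⟨x, hx⟩ from hX] at e1
    exact congrArg Subtype.val e1

end U34

end H83.GI
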