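import Cfsg.Agent.H83.GI.FourNum
import Cfsg.Agent.H83.GI.FourLinear
import Cfsg.Agent.H83.GI.FourBlock
import Cfsg.Agent.H12.Transport

/-!
A Sylow 2-subgroup of U₃(4) type (helper83): the multiplicities of the linear characters in the
principal block give a normal subgroup meeting `P` in its involutions.
-/

set_option autoImplicit false
set_option linter.unusedSectionVars false
set_option linter.style.haveILetI false

namespace H83.GI

open Cfsg Finset
open scoped ComplexConjugate commutatorElement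

universe u

variable {G : Type u} [Group G] [Fintype G]

namespace U34

variable {P : Sylow 2 G} {h : G} (S : U34 P h)
include S

/-- Summation over the conjugates in `P` of an element outside the involutions. -/
theorem fusion_sum [Fintype ↥(P : Subgroup G)] {x : G} (hx : x ∈ P) (hx2 : x * x ≠ 1)
    (F : ↥(P : Subgroup G) → ℂ) (hF : ∀ q y : ↥(P : Subgroup G), F (q * y * q⁻¹) = F y)
    [DecidablePred fun y : ↥(P : Subgroup G) => IsConj x (y : G)] :
    (Nat.card ↥((P : Subgroup G) ⊓ Subgroup.centralizer ({x} : Set G)) : ℂ) *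
        ∑ y ∈ univ.filter (fun y : ↥(P : Subgroup G) => IsConj x (y : G)), F y =
      64 * ∑ i : Fin 3, F (S.conjP i ⟨x, hx⟩) := by
  classical
  set x' : ↥(P : Subgroup G) := ⟨x, hx⟩
  let φ : Fin 3 × ↥(P : Subgroup G) → ↥(P : Subgroup G) := fun iq =>
    S.conjP iq.1 (iq.2 * x' * iq.2⁻¹)
  have h1 : ∑ iq : Fin 3 × ↥(P : Subgroup G), F (φ iq) = 64 * ∑ i : Fin 3, F (S.conjP i x') := by
    rw [Fintype.sum_prod_type, mul_sum]
    refine sum_congr rfl fun i _ => ?_
    rw [sum_congr rfl fun q _ => show F (φ (i, q)) = F (S.conjP i x') by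
      simp only [φ, map_mul, map_inv]
      exact hF _ _, sum_const, card_univ, ← Nat.card_eq_fintype_card, S.card, nsmul_eq_mul]
    norm_num
  have hfib : ∀ y : ↥(P : Subgroup G), IsConj x (y : G) → (univ.filter fun iq => φ iq = y).card =
      Nat.card ↥((P : Subgroup G) ⊓ Subgroup.centralizer ({x} : Set G)) := by
    intro y hy
    obtain ⟨g, hg⟩ := isConj_iff.1 hy
    obtain ⟨i₀, q₀, hq₀, e₀⟩ := S.fusion hx hx2 (hg ▸ y.2)
    have hy0 : φ (i₀, ⟨q₀, hq₀⟩) = y := Subtype.ext (e₀.symm.trans hg)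
    have hrec : ∀ iq, φ iq = y → iq.1 = i₀ ∧ ((q₀⁻¹ * iq.2 : G)) * x = x * (q₀⁻¹ * iq.2) := by
      intro iq hiq
      have e := congrArg Subtype.val (hiq.trans hy0.symm)
      simp only [φ, conjP_apply, Subgroup.coe_mul, Subgroup.coe_inv] at e
      have e2 : h ^ (iq.1 : ℕ) * (x * x) * (h ^ (iq.1 : ℕ))⁻¹ =
          h ^ (i₀ : ℕ) * (x * x) * (h ^ (i₀ : ℕ))⁻¹ := by
        have := congrArg (fun z => z * z) e
        simp only [conj_mul] at this
        rwa [S.conj_omega_eq iq.2.2 (S.sq_mem hx), S.conj_omega_eq hq₀ (S.sq_mem hx)] at this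
      have hi := S.pow_inj (S.sq_mem hx) hx2 e2
      refine ⟨hi, ?_⟩
      rw [hi] at e
      have e' := mul_left_cancel (mul_right_cancel e)
      calc q₀⁻¹ * (iq.2 : G) * x = q₀⁻¹ * ((iq.2 : G) * x * (iq.2 : G)⁻¹) * iq.2 := by group
        _ = q₀⁻¹ * (q₀ * x * q₀⁻¹) * iq.2 := by rw [e']
        _ = x * (q₀⁻¹ * iq.2) := by group
    rw [← Fintype.card_subtype, ← Nat.card_eq_fintype_card]
    refine Nat.card_congr
      { toFun := fun w => ⟨q₀⁻¹ * w.1.2, (P : Subgroup G).mul_mem ((P : Subgroup G).inv_mem hq₀) w.1.2.2,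
          Subgroup.mem_centralizer_singleton_iff.2 (hrec w.1 w.2).2⟩
        invFun := fun c => ⟨(i₀, ⟨q₀ * c, (P : Subgroup G).mul_mem hq₀ c.2.1⟩), ?_⟩
        left_inv := fun w => ?_
        right_inv := fun c => Subtype.ext (inv_mul_cancel_left _ _) }
    · rw [← hy0]
      refine congrArg (S.conjP i₀) (Subtype.ext ?_)
      have hc := Subgroup.mem_centralizer_singleton_iff.1 c.2.2
      show q₀ * (c : G) * x * (q₀ * (c : G))⁻¹ = q₀ * x * q₀⁻¹
      rw [mul_assoc q₀, hc]
      group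
    · exact Subtype.ext (Prod.ext (hrec w.1 w.2).1.symm (Subtype.ext (mul_inv_cancel_left _ _)))
  have hmaps : ∀ iq, IsConj x (φ iq : G) := fun iq => isConj_iff.2
    ⟨h ^ (iq.1 : ℕ) * iq.2, by simp only [φ, x', conjP_apply, Subgroup.coe_mul, Subgroup.coe_inv]; group⟩
  rw [← h1, mul_sum,
    ← sum_fiberwise_of_maps_to (g := φ) (t := univ.filter fun y : ↥(P : Subgroup G) => IsConj x (y : G))
      (fun iq _ => mem_filter.2 ⟨mem_univ _, hmaps iq⟩) fun iq => F (φ iq)]
  refine sum_congr rfl fun y hy => ?_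
  rw [sum_congr rfl fun iq hiq => show F (φ iq) = F y by rw [(mem_filter.1 hiq).2], sum_const,
    hfib y (mem_filter.1 hy).2, nsmul_eq_mul]

/-- Multiplicity of a linear character in a character restricted to `P`. -/
theorem exists_mult (χ : IrrCharacter G) [Fintype ↥(P : Subgroup G)] (f : Lam P) :
    ∃ m : ℕ, ∑ x : ↥(P : Subgroup G), (χ : G → ℂ) x * (f x : ℂ) = 64 * (m : ℂ) := by
  obtain ⟨m, hm⟩ := H12.IsCharacter.classInner_nat
    (H12.IsCharacter.res (H12.isCharacter_irr χ) (P : Subgroup G)) (H12.isCharacter_monoidHom f)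
  refine ⟨m, ?_⟩
  rw [← hm, ← show (Nat.card ↥(P : Subgroup G) : ℂ) = 64 by rw [S.card]; norm_num,
    ← H12.sum_mul_conj_eq_card_mul]
  exact sum_congr rfl fun x _ => by rw [S.lam_conj]

set_option maxHeartbeats 1000000 in
/-- There is a normal subgroup meeting `P` exactly in its involutions. -/
theorem exists_normal {M : Ideal AlgInt} [M.IsPrime] (hM : IsPModular 2 M) :
    ∃ N : Subgroup G, N.Normal ∧ ∀ x ∈ P, (x ∈ N ↔ x ∈ S.omega) := by
  classical
  haveI := Fintype.ofFinite ↥(P : Subgroup G)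
  haveI : Finite (Lam P) := Nat.finite_of_card_ne_zero (by rw [S.card_lam]; norm_num)
  haveI := Fintype.ofFinite (Lam P)
  haveI := Fintype.ofFinite ↥S.omega
  set B := H22.blockFinset (principalBlock M G)
  obtain ⟨a, ha, ha1⟩ : ∃ a ∈ S.omega, a ≠ 1 := by
    by_contra hcon
    push Not at hcon
    have := S.card_omega
    rw [show S.omega = ⊥ from (Subgroup.eq_bot_iff_forall _).2 hcon, Subgroup.card_bot] at this
    omega
  have hval : ∀ (χ : IrrCharacter G), ∀ b ∈ S.omega, b ≠ 1 → (χ : G → ℂ) b = (χ : G → ℂ) a := by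
    intro χ b hb hb1
    obtain ⟨i, hi⟩ := S.exists_pow ha ha1 hb hb1
    rw [← hi, H12.irr_isClassFunction χ a]
  -- degrees and values at the involutions
  let d : IrrCharacter G → ℤ := fun χ => (H12.degree (χ : G → ℂ) : ℤ)
  have hd : ∀ χ : IrrCharacter G, (χ : G → ℂ) 1 = (d χ : ℂ) := fun χ => by
    simp only [d, Int.cast_natCast]; exact H12.irr_apply_one χ
  have hdpos : ∀ χ, 0 < d χ := fun χ => by simp only [d]; exact_mod_cast H12.irr_degree_pos χ
  choose u hu using fun χ : IrrCharacter G =>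
    (⟨_, (H20.irr_involution χ (S.orderOf_omega ha ha1)).choose_spec.1⟩ :
      ∃ n : ℤ, (χ : G → ℂ) a = (n : ℂ))
  -- multiplicities
  choose m hm using fun (χ : IrrCharacter G) (f : Lam P) => S.exists_mult χ f
  let n : Lam P → IrrCharacter G → ℤ := fun f χ => (m χ f : ℤ) - (m χ 1 : ℤ)
  have hn : ∀ f χ, 64 * (n f χ : ℂ) =
      ∑ x : ↥(P : Subgroup G), (χ : G → ℂ) x * ((f x : ℂ) - 1) := by
    intro f χ
    simp only [mul_sub, mul_one, sum_sub_distrib, hm, n]
    have h1 := hm χ 1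
    simp only [MonoidHom.one_apply, Units.val_one, mul_one] at h1
    rw [h1]
    push_cast
    ring
  have hn' : ∀ f χ, 64 * (n f χ : ℂ) =
      ∑ x : ↥(P : Subgroup G), conj ((χ : G → ℂ) x) * ((f x : ℂ) - 1) := by
    intro f χ
    have e := congrArg conj (hn f χ)
    simp only [map_mul, map_sum, map_sub, map_one, map_intCast, S.lam_conj,
      map_ofNat] at e
    exact e
  have h64 : (64 : ℂ) ≠ 0 := by norm_num
  have houtside : ∀ x : ↥(P : Subgroup G), (x : G) ∉ S.omega → (x : G) * x ≠ 1 :=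
    fun x hx e => hx ⟨x.2, e⟩
  have lin0 : ∀ (w : IrrCharacter G → ℂ), (∀ x ∈ P, x * x ≠ 1 →
      ∑ χ ∈ B, w χ * conj ((χ : G → ℂ) x) = 0) → ∀ f, ∑ χ ∈ B, w χ * (n f χ : ℂ) = 0 := by
    intro w hw f
    apply mul_left_cancel₀ h64
    rw [mul_zero, mul_sum, sum_congr rfl fun χ _ => show (64 : ℂ) * (w χ * (n f χ : ℂ)) =
      ∑ x : ↥(P : Subgroup G), w χ * conj ((χ : G → ℂ) x) * ((f x : ℂ) - 1) by
      rw [mul_left_comm, hn', mul_sum]; exact sum_congr rfl fun x _ => (mul_assoc _ _ _).symm,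
      sum_comm]
    refine sum_eq_zero fun x _ => ?_
    rw [← sum_mul]
    by_cases hx : (x : G) ∈ S.omega
    · rw [S.lam_omega f hx, Units.val_one, sub_self, mul_zero]
    · rw [hw x x.2 (houtside x hx), zero_mul]
  have hL1 : ∀ f, ∑ χ ∈ B, (χ : G → ℂ) 1 * (n f χ : ℂ) = 0 := lin0 _ fun x hx hx2 =>
    S.col_one hM hx fun e => hx2 (by rw [e, one_mul])
  have hL2 : ∀ f, ∑ χ ∈ B, (χ : G → ℂ) a * (n f χ : ℂ) = 0 := lin0 _ fun x hx hx2 =>
    S.col_ne hM hx (S.omega_le ha) fun hc => hx2 (by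
      obtain ⟨g, hg⟩ := isConj_iff.1 hc
      have : g * x * g⁻¹ * (g * x * g⁻¹) = g * (x * x) * g⁻¹ := conj_mul
      rw [hg, ha.2] at this
      exact conj_eq_one_iff.1 this.symm)
  have hL3 : ∀ f, ∑ χ ∈ B, (χ : G → ℂ) a * (χ : G → ℂ) a / (χ : G → ℂ) 1 * (n f χ : ℂ) = 0 :=
    lin0 _ fun x hx hx2 => by
      rw [← S.products hM (a := a) ha.2 hx hx2]
      exact sum_congr rfl fun χ _ => by ring
  -- the Gram matrix
  have hrow : ∀ (g : Lam P) (x : ↥(P : Subgroup G)), (x : G) ∉ S.omega →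
      ∑ χ ∈ B, (n g χ : ℂ) * conj ((χ : G → ℂ) x) = ∑ i : Fin 3, ((S.tw i g x : ℂ) - 1) := by
    intro g x hx
    apply mul_left_cancel₀ h64
    rw [mul_sum, sum_congr rfl fun χ _ => show (64 : ℂ) * ((n g χ : ℂ) * conj ((χ : G → ℂ) x)) =
      ∑ y : ↥(P : Subgroup G), ((g y : ℂ) - 1) * ((χ : G → ℂ) y * conj ((χ : G → ℂ) x)) by
      rw [← mul_assoc, hn, sum_mul]; exact sum_congr rfl fun y _ => by ring, sum_comm]
    have hx1 : (x : G) ≠ 1 := fun e => hx (e ▸ one_mem _)
    have hcol : ∀ y : ↥(P : Subgroup G), ∑ χ ∈ B, (χ : G → ℂ) y * conj ((χ : G → ℂ) x) =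
        if IsConj (x : G) y then
          (Nat.card ↥((P : Subgroup G) ⊓ Subgroup.centralizer ({(x : G)} : Set G)) : ℂ) else 0 := by
      intro y
      split_ifs with hc
      · rw [← S.col_self hM x.2 hx1]
        exact sum_congr rfl fun χ _ => by
          rw [H12.IsClassFunction.of_isConj (H12.irr_isClassFunction χ) hc]
      · exact S.col_ne hM x.2 y.2 hc
    rw [sum_congr rfl fun y _ => by rw [← mul_sum, hcol y]]
    simp only [mul_ite, mul_zero]
    rw [← sum_filter, ← sum_mul, mul_comm, S.fusion_sum x.2 (houtside x hx) (fun y => (g y : ℂ) - 1)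
      fun q y => by rw [map_mul, map_mul, map_inv, mul_comm (g q), mul_inv_cancel_right]]
    rfl
  have hgram : ∀ f g : Lam P, f ≠ 1 → g ≠ 1 →
      ∑ χ ∈ B, n f χ * n g χ = ((univ.filter fun i : Fin 3 => f = S.tw i g).card : ℤ) + 3 := by
    intro f g hf hg
    apply Int.cast_injective (α := ℂ)
    apply mul_left_cancel₀ h64
    push_cast
    rw [mul_sum, sum_congr rfl fun χ _ => show (64 : ℂ) * ((n f χ : ℂ) * (n g χ : ℂ)) =
      ∑ x : ↥(P : Subgroup G), ((f x : ℂ) - 1) * ((n g χ : ℂ) * conj ((χ : G → ℂ) x)) by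
      rw [← mul_assoc, hn', sum_mul]; exact sum_congr rfl fun x _ => by ring, sum_comm]
    have hterm : ∀ x : ↥(P : Subgroup G),
        ∑ χ ∈ B, ((f x : ℂ) - 1) * ((n g χ : ℂ) * conj ((χ : G → ℂ) x)) =
        ∑ i : Fin 3, ((f x : ℂ) - 1) * ((S.tw i g x : ℂ) - 1) := by
      intro x
      rw [← mul_sum, ← mul_sum]
      by_cases hx : (x : G) ∈ S.omega
      · rw [S.lam_omega f hx, Units.val_one, sub_self, zero_mul, zero_mul]
      · rw [hrow g x hx]
    rw [sum_congr rfl fun x _ => hterm x, sum_comm]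
    have hi : ∀ i : Fin 3, ∑ x : ↥(P : Subgroup G), ((f x : ℂ) - 1) * ((S.tw i g x : ℂ) - 1) =
        64 * ((if f = S.tw i g then (1 : ℂ) else 0) + 1) := by
      intro i
      have e : ∀ x, ((f x : ℂ) - 1) * ((S.tw i g x : ℂ) - 1) =
          ((f * S.tw i g) x : ℂ) - (f x : ℂ) - (S.tw i g x : ℂ) + 1 := fun x => by
        rw [MonoidHom.mul_apply, Units.val_mul]; ring
      rw [sum_congr rfl fun x _ => e x, sum_add_distrib, sum_sub_distrib, sum_sub_distrib,
        S.sum_apply hf, S.sum_apply (S.tw_ne_one i hg), sum_const, card_univ,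
        ← Nat.card_eq_fintype_card, S.card]
      split_ifs with he
      · have h1 : f * S.tw i g = 1 := by
          ext x
          rw [← he, MonoidHom.mul_apply, Units.val_mul]
          rcases S.lam_pm f x with p | p <;> rw [p] <;> simp
        rw [sum_congr rfl fun x _ => show ((f * S.tw i g) x : ℂ) = 1 by rw [h1]; simp, sum_const,
          card_univ, ← Nat.card_eq_fintype_card, S.card]
        norm_num
      · rw [S.sum_apply fun h1 => he ?_]
        · norm_num
        ext x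
        have := congrArg Units.val (DFunLike.congr_fun h1 x)
        rw [MonoidHom.mul_apply, Units.val_mul] at this
        rcases S.lam_pm f x with p | p <;> rcases S.lam_pm (S.tw i g) x with q | q <;>
          rw [p, q] at this ⊢ <;> norm_num at this
    rw [sum_congr rfl fun i _ => hi i, ← mul_sum, sum_add_distrib, sum_boole]
    simp
  -- the trivial character
  set one := H12.oneIrr G with hone
  have honeB : one ∈ B := H22.mem_blockFinset.2 (H20.mem_blockOf_self (H12.oneIrr G))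
  have hone1 : d one = 1 ∧ u one = 1 := by
    have e1 := hd one
    have e2 := hu one
    rw [hone, H12.oneIrr_apply] at e1 e2
    exact ⟨(Int.cast_eq_one.1 e1.symm), (Int.cast_eq_one.1 e2.symm)⟩
  have hnone : ∀ f, f ≠ 1 → n f one = -1 := by
    intro f hf
    apply Int.cast_injective (α := ℂ)
    apply mul_left_cancel₀ h64
    rw [hn, sum_congr rfl fun (x : ↥(P : Subgroup G)) _ =>
      show (one : G → ℂ) x * ((f x : ℂ) - 1) = (f x : ℂ) - 1 by
      rw [hone, H12.oneIrr_apply, one_mul], sum_sub_distrib, S.sum_apply hf, sum_const, card_univ,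
      ← Nat.card_eq_fintype_card, S.card]
    norm_num
  set s := B.erase one
  let v : Lam P → IrrCharacter G → ℤ := fun f χ => if χ ∈ s then n f χ else 0
  have hdot : ∀ f g : Lam P, f ≠ 1 → g ≠ 1 →
      ∑ χ ∈ s, v f χ * v g χ = ((univ.filter fun i : Fin 3 => f = S.tw i g).card : ℤ) + 2 := by
    intro f g hf hg
    rw [sum_congr rfl fun χ hχ => show v f χ * v g χ = n f χ * n g χ by simp [v, hχ],
      sum_erase_eq_sub honeB, hgram f g hf hg, hnone f hf, hnone g hg]
    ring
  have hcount : ∀ f g : Lam P, g ≠ 1 →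
      (univ.filter fun i : Fin 3 => f = S.tw i g).card ≤ 1 := fun f g hg =>
    card_le_one.2 fun i hi j hj =>
      S.tw_injective hg ((mem_filter.1 hi).2.symm.trans (mem_filter.1 hj).2)
  have hcountpos : ∀ f g : Lam P, g ≠ 1 → (∃ i, f = S.tw i g) →
      (univ.filter fun i : Fin 3 => f = S.tw i g).card = 1 := fun f g hg ⟨i, hi⟩ =>
    le_antisymm (hcount f g hg) (card_pos.2 ⟨i, mem_filter.2 ⟨mem_univ _, hi⟩⟩)
  have hself : ∀ f : Lam P, f ≠ 1 → ∑ χ ∈ s, v f χ * v f χ = 3 := fun f hf => by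
    rw [hdot f f hf hf, hcountpos f f hf ⟨0, (S.tw_zero f).symm⟩]; norm_num
  have hveq : ∀ f g : Lam P, f ≠ 1 → g ≠ 1 → (v f = v g ↔ ∃ i, f = S.tw i g) := by
    intro f g hf hg
    constructor
    · intro e
      have := hself g hg
      nth_rewrite 1 [← e] at this
      rw [hdot f g hf hg] at this
      by_contra hcon
      rw [filter_eq_empty_iff.2 fun i _ hi => hcon ⟨i, hi⟩] at this
      simp at this
    · intro hex
      have h0 : ∑ χ ∈ s, (v f χ - v g χ) * (v f χ - v g χ) = 0 := by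
        simp only [mul_sub, sub_mul, sum_sub_distrib, hself f hf, hself g hg]
        have e : ∑ χ ∈ s, v g χ * v f χ = ∑ χ ∈ s, v f χ * v g χ :=
          sum_congr rfl fun χ _ => mul_comm _ _
        rw [e, hdot f g hf hg, hcountpos f g hg hex]
        norm_num
      funext χ
      by_cases hχ : χ ∈ s
      · have := (sum_eq_zero_iff_of_nonneg fun x _ => mul_self_nonneg _).1 h0 χ hχ
        exact sub_eq_zero.1 (mul_self_eq_zero.1 this)
      · simp [v, hχ]
  set L := (univ : Finset (Lam P)).erase 1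
  have memL : ∀ f, f ∈ L ↔ f ≠ 1 := fun f => by simp [L]
  set F := L.image v
  have hfib : ∀ f ∈ L, (L.filter fun g => v g = v f).card = 3 := by
    intro f hf
    rw [memL] at hf
    have e : L.filter (fun g => v g = v f) = univ.image fun i : Fin 3 => S.tw i f := by
      ext g
      simp only [mem_filter, memL, mem_image, mem_univ, true_and]
      constructor
      · rintro ⟨hg, hgf⟩
        obtain ⟨i, hi⟩ := (hveq g f hg hf).1 hgf
        exact ⟨i, hi.symm⟩
      · rintro ⟨i, rfl⟩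
        exact ⟨S.tw_ne_one i hf, (hveq _ f (S.tw_ne_one i hf) hf).2 ⟨i, rfl⟩⟩
    rw [e, card_image_of_injective _ (S.tw_injective hf), card_univ, Fintype.card_fin]
  have hF5 : F.card = 5 := by
    have h1 : L.card = ∑ w ∈ F, (L.filter fun g => v g = w).card :=
      card_eq_sum_card_image v L
    rw [sum_congr rfl fun w hw => show (L.filter fun g => v g = w).card = 3 by
        obtain ⟨f, hf, rfl⟩ := mem_image.1 hw
        exact hfib f hf,
      sum_const, smul_eq_mul, card_erase_of_mem (mem_univ _), card_univ,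
      ← Nat.card_eq_fintype_card, S.card_lam] at h1
    omega
  obtain ⟨b, hb, c, hc, hbc, eb, ec, heb, hec, hflower⟩ := sunflower s F hF5
    (fun w hw => by
      obtain ⟨f, hf, rfl⟩ := mem_image.1 hw
      exact hself f ((memL f).1 hf))
    (fun w hw w' hw' hne => by
      obtain ⟨f, hf, rfl⟩ := mem_image.1 hw
      obtain ⟨g, hg, rfl⟩ := mem_image.1 hw'
      rw [hdot f g ((memL f).1 hf) ((memL g).1 hg),
        filter_eq_empty_iff.2 fun i _ hi =>
          hne ((hveq f g ((memL f).1 hf) ((memL g).1 hg)).2 ⟨i, hi⟩)]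
      simp)
  choose! hvb hvc px hpxs hpxb hpxc hpxe hpx0 hpxo using hflower
  have hfun : ∀ f ∈ L, v f ∈ F := fun f hf => mem_image_of_mem v hf
  -- linear relations
  have hlin : ∀ (W : IrrCharacter G → ℂ), (∀ f, ∑ χ ∈ B, W χ * (n f χ : ℂ) = 0) → ∀ f ∈ L,
      W b * (eb : ℂ) + W c * (ec : ℂ) + W (px (v f)) * (v f (px (v f)) : ℂ) = W one := by
    intro W hW f hf
    have hw := hfun f hf
    have h0 := hW f
    rw [← add_sum_erase B (fun χ => W χ * (n f χ : ℂ)) honeB, hnone f ((memL f).1 hf)] at h0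
    have hs : ∑ χ ∈ s, W χ * (n f χ : ℂ) =
        W b * (eb : ℂ) + W c * (ec : ℂ) + W (px (v f)) * (v f (px (v f)) : ℂ) := by
      rw [sum_congr rfl fun χ hχ => show W χ * (n f χ : ℂ) = W χ * (v f χ : ℂ) by simp [v, hχ],
        ← sum_subset (s₁ := {b, c, px (v f)}) ?_ ?_]
      · rw [sum_insert (by simp [hbc, (hpxb _ hw).symm]), sum_pair (hpxc _ hw).symm, hvb _ hw,
          hvc _ hw]
        ring
      · intro χ hχ
        simp only [mem_insert, mem_singleton] at hχ
        rcases hχ with rfl | rfl | rfl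
        exacts [hb, hc, hpxs _ hw]
      · intro χ hχ hχ'
        simp only [mem_insert, mem_singleton, not_or] at hχ'
        rw [hpx0 _ hw χ hχ hχ'.2.2 hχ'.1 hχ'.2.1, Int.cast_zero, mul_zero]
    rw [← hs]
    push_cast at h0
    linear_combination h0
  set D₁ := -eb * d b with hD₁
  set D₂ := -ec * d c with hD₂
  set U₁ := -eb * u b with hU₁
  set U₂ := -ec * u c with hU₂
  have hebsq : eb * eb = 1 := by rcases heb with e | e <;> rw [e] <;> norm_num
  have hecsq : ec * ec = 1 := by rcases hec with e | e <;> rw [e] <;> norm_num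
  have hdeg : ∀ f ∈ L, v f (px (v f)) * d (px (v f)) = 1 + D₁ + D₂ := by
    intro f hf
    apply Int.cast_injective (α := ℂ)
    have := hlin (fun χ => (χ : G → ℂ) 1) hL1 f hf
    simp only [hd, hone1.1, Int.cast_one] at this
    simp only [hD₁, hD₂]
    push_cast
    linear_combination this
  have hinv : ∀ f ∈ L, v f (px (v f)) * u (px (v f)) = 1 + U₁ + U₂ := by
    intro f hf
    apply Int.cast_injective (α := ℂ)
    have := hlin (fun χ => (χ : G → ℂ) a) hL2 f hf
    simp only [hu, hone1.2, Int.cast_one] at this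
    simp only [hU₁, hU₂]
    push_cast
    linear_combination this
  obtain ⟨f₀, hf₀⟩ : L.Nonempty := card_pos.1 (by
    rw [card_erase_of_mem (mem_univ _), card_univ, ← Nat.card_eq_fintype_card, S.card_lam]
    norm_num)
  have hw₀ := hfun f₀ hf₀
  set D := 1 + D₁ + D₂ with hD
  set X := 1 + U₁ + U₂ with hX
  have hpm : ∀ f ∈ L, v f (px (v f)) * v f (px (v f)) = 1 := fun f hf => by
    rcases hpxe _ (hfun f hf) with e | e <;> rw [e] <;> norm_num
  have hD0 : D ≠ 0 := by
    rw [← hdeg f₀ hf₀]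
    exact mul_ne_zero (fun e => by have := hpm f₀ hf₀; simp [e] at this) (hdpos _).ne'
  -- congruences
  have hAsum : ∀ χ : IrrCharacter G, ∑ z : S.omega, (χ : G → ℂ) z = (d χ : ℂ) + 3 * (u χ : ℂ) := by
    intro χ
    rw [← add_sum_erase univ (fun z : S.omega => (χ : G → ℂ) z) (mem_univ 1)]
    rw [sum_congr rfl fun (z : S.omega) hz =>
        (hval χ z z.2 fun e => (mem_erase.1 hz).1 (Subtype.ext e)).trans (hu χ),
      sum_const, card_erase_of_mem (mem_univ _), card_univ, ← Nat.card_eq_fintype_card,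
      S.card_omega, OneMemClass.coe_one, hd]
    norm_num
  have hlinsum : ∀ χ : IrrCharacter G,
      d χ + 3 * u χ = 4 * (16 * (m χ 1 : ℤ) + ∑ f ∈ L, n f χ) := by
    intro χ
    apply Int.cast_injective (α := ℂ)
    push_cast
    rw [← hAsum]
    have e1 : ∑ f : Lam P, ∑ x : ↥(P : Subgroup G), (χ : G → ℂ) x * (f x : ℂ) =
        16 * ∑ z : S.omega, (χ : G → ℂ) z := by
      rw [sum_comm, sum_congr rfl fun x _ => by rw [← mul_sum, S.sum_lam x]]
      simp only [mul_ite, mul_zero]
      rw [← sum_filter, ← sum_mul, mul_comm]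
      congr 1
      symm
      exact sum_bij (fun z _ => (⟨z, S.omega_le z.2⟩ : ↥(P : Subgroup G)))
        (fun z _ => mem_filter.2 ⟨mem_univ _, z.2⟩)
        (fun z _ z' _ e => Subtype.ext (congrArg (fun t => ((t : ↥(P : Subgroup G)) : G)) e))
        (fun x hx => ⟨⟨x, (mem_filter.1 hx).2⟩, mem_univ _, rfl⟩) (fun _ _ => rfl)
    rw [sum_congr rfl fun f _ => hm χ f, ← mul_sum,
      ← add_sum_erase univ (fun f => (m χ f : ℂ)) (mem_univ 1)] at e1
    have e2 : ∑ f ∈ L, (n f χ : ℂ) = ∑ f ∈ L, (m χ f : ℂ) - 15 * (m χ 1 : ℂ) := by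
      simp only [n, Int.cast_sub, Int.cast_natCast, sum_sub_distrib, sum_const, nsmul_eq_mul]
      rw [card_erase_of_mem (mem_univ _), card_univ, ← Nat.card_eq_fintype_card, S.card_lam]
      norm_num
    rw [e2]
    linear_combination (-1 / 16 : ℂ) * e1
  have hcong : ∀ w e : _, w ∈ s → (e = 1 ∨ e = -1) → (∀ f ∈ L, n f w = e) →
      (4 : ℤ) ∣ -e * u w - 1 ∧ (64 : ℤ) ∣ -e * d w + 3 * (-e * u w) - 4 := by
    intro w e _ he hne
    have h1 := hlinsum w
    rw [sum_congr rfl hne, sum_const, card_erase_of_mem (mem_univ _), card_univ,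
      ← Nat.card_eq_fintype_card, S.card_lam, nsmul_eq_mul] at h1
    have h16 := S.sixteen_dvd w (hd w) fun z hz hz1 => (hval w z hz hz1).trans (hu w)
    push_cast at h1
    rcases he with rfl | rfl <;> constructor <;> omega
  have hnb : ∀ f ∈ L, n f b = eb := fun f hf => by
    rw [← hvb _ (hfun f hf)]; simp [v, hb]
  have hnc : ∀ f ∈ L, n f c = ec := fun f hf => by
    rw [← hvc _ (hfun f hf)]; simp [v, hc]
  obtain ⟨hb4, hb64⟩ := hcong b eb hb heb hnb
  obtain ⟨hc4, hc64⟩ := hcong c ec hc hec hnc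
  -- the column of the involution
  have hbound : 1 + U₁ * U₁ + U₂ * U₂ + 5 * (X * X) ≤ 64 := by
    have hsq : ∑ χ ∈ B, u χ * u χ = 64 := by
      apply Int.cast_injective (α := ℂ)
      have := S.col_self hM (S.omega_le ha) ha1
      rw [inf_eq_left.2 (S.le_centralizer_omega ha), S.card] at this
      push_cast at this ⊢
      rw [← this]
      exact sum_congr rfl fun χ _ => by rw [hu χ, map_intCast]
    have hinj : ∀ w ∈ F, ∀ w' ∈ F, px w = px w' → w = w' := by
      intro w hw w' hw' e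
      by_contra hne
      have h0 := hpxo w hw w' hw' (Ne.symm hne)
      rw [e] at h0
      rcases hpxe w' hw' with e' | e' <;> rw [h0] at e' <;> norm_num at e'
    have hsub : insert b (insert c (F.image px)) ⊆ s := by
      intro χ hχ
      simp only [mem_insert, mem_image] at hχ
      rcases hχ with rfl | rfl | ⟨w, hw, rfl⟩
      exacts [hb, hc, hpxs w hw]
    have hle : ∑ χ ∈ insert b (insert c (F.image px)), u χ * u χ ≤ ∑ χ ∈ s, u χ * u χ :=
      sum_le_sum_of_subset_of_nonneg hsub fun χ _ _ => mul_self_nonneg _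
    have hcF : c ∉ F.image px := fun h => by
      obtain ⟨w, hw, e⟩ := mem_image.1 h; exact hpxc w hw e
    have hbF : b ∉ insert c (F.image px) := fun h => by
      rcases mem_insert.1 h with h | h
      · exact hbc h
      · obtain ⟨w, hw, e⟩ := mem_image.1 h; exact hpxb w hw e
    rw [sum_insert hbF, sum_insert hcF, sum_image hinj,
      sum_congr rfl fun w hw => show u (px w) * u (px w) = X * X by
        obtain ⟨f, hf, rfl⟩ := mem_image.1 hw
        rw [← hinv f hf, mul_mul_mul_comm, hpm f hf, one_mul],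
      sum_const, hF5, sum_erase_eq_sub honeB, hsq, hone1.2] at hle
    have e1 : U₁ * U₁ = u b * u b := by rw [hU₁]; linear_combination (u b * u b) * hebsq
    have e2 : U₂ * U₂ = u c * u c := by rw [hU₂]; linear_combination (u c * u c) * hecsq
    rw [e1, e2]
    simp at hle
    linarith
  have hid : ((X : ℚ) * X) / D = 1 + (U₁ : ℚ) * U₁ / D₁ + (U₂ : ℚ) * U₂ / D₂ := by
    have := hlin (fun χ => (χ : G → ℂ) a * (χ : G → ℂ) a / (χ : G → ℂ) 1) hL3 f₀ hf₀
    simp only [hd, hu, hone1.1, hone1.2, Int.cast_one, mul_one, div_one] at this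
    apply Rat.cast_injective (α := ℂ)
    rw [← hinv f₀ hf₀, ← hdeg f₀ hf₀, hU₁, hU₂, hD₁, hD₂]
    push_cast
    have hne : ∀ χ, (d χ : ℂ) ≠ 0 := fun χ => by exact_mod_cast (hdpos χ).ne'
    have hef : (v f₀ (px (v f₀)) : ℂ) ≠ 0 := by
      rcases hpxe _ hw₀ with e | e <;> rw [e] <;> norm_num
    generalize v f₀ (px (v f₀)) = ef at *
    have hb0 : (eb : ℂ) ≠ 0 := by rcases heb with e | e <;> rw [e] <;> norm_num
    have hc0 : (ec : ℂ) ≠ 0 := by rcases hec with e | e <;> rw [e] <;> norm_num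
    field_simp at this ⊢
    linear_combination this
  obtain ⟨hD3, hX3⟩ := degree_three hX hD hD0 (by
      rw [hD₁]; exact mul_ne_zero (by rcases heb with e | e <;> rw [e] <;> norm_num) (hdpos b).ne')
    (by rw [hD₂]; exact mul_ne_zero (by rcases hec with e | e <;> rw [e] <;> norm_num) (hdpos c).ne')
    hbound hb4 hc4 hb64 hc64 hid
  have hker : ∀ w ∈ F, w (px w) = 1 ∧
      (px w : G → ℂ) a = (px w : G → ℂ) 1 := by
    intro w hw
    obtain ⟨f, hf, rfl⟩ := mem_image.1 hw
    have h1 := hdeg f hf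
    have h2 := hinv f hf
    have h3 := hdpos (px (v f))
    rw [hD3] at h1
    rw [hX3] at h2
    rcases hpxe _ hw with e | e
    · rw [e, one_mul] at h1 h2
      exact ⟨e, by rw [hu, hd, h1, h2]⟩
    · rw [e] at h1; omega
  set N := ⨅ w : F, H12.charKer _ (H12.isCharacter_irr (px w.1)) with hN
  refine ⟨N, Subgroup.normal_iInf_normal fun w => H12.charKer_normal _, fun x hx => ⟨fun hxN => ?_,
    fun hxA => Subgroup.mem_iInf.2 fun w => ?_⟩⟩
  · by_contra hxA
    obtain ⟨f, hf⟩ := S.lam_sep (x := ⟨x, hx⟩) hxA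
    have hf1 : f ≠ 1 := fun e => hf (by rw [e]; rfl)
    have hw := hfun f ((memL f).2 hf1)
    have hk : (px (v f) : G → ℂ) x = (px (v f) : G → ℂ) 1 :=
      Subgroup.mem_iInf.1 hxN ⟨v f, hw⟩
    have hone' : n f (px (v f)) = 1 := by
      rw [← (hker _ hw).1]
      simp [v, hpxs _ hw]
    have hmpos : (m (px (v f)) f : ℂ) ≠ 0 := by
      have : (m (px (v f)) f : ℤ) - (m (px (v f)) 1 : ℤ) = 1 := hone'
      exact Nat.cast_ne_zero.2 (by omega)
    have e := hm (px (v f)) f
    rw [← Equiv.sum_comp (Equiv.mulLeft (⟨x, hx⟩ : ↥(P : Subgroup G)))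
      fun y => (px (v f) : G → ℂ) y * (f y : ℂ)] at e
    rw [sum_congr rfl fun (y : ↥(P : Subgroup G)) _ => show _ = (f ⟨x, hx⟩ : ℂ) * ((px (v f) : G → ℂ) y * (f y : ℂ)) by
      simp only [Equiv.coe_mulLeft, Subgroup.coe_mul, map_mul, Units.val_mul]
      rw [H12.IsCharacter.mul_left_of_eq_degree (H12.isCharacter_irr _) hk]
      ring, ← mul_sum, hm] at e
    have h2 : ((f ⟨x, hx⟩ : ℂ) - 1) * (64 * (m (px (v f)) f : ℂ)) = 0 := by linear_combination e
    exact hf (Units.ext (sub_eq_zero.1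
      ((mul_eq_zero.1 h2).resolve_right (mul_ne_zero h64 hmpos))))
  · rw [H12.mem_charKer]
    by_cases hx1 : x = 1
    · rw [hx1]
    · rw [hval _ x hxA hx1]
      exact (hker w.1 w.2).2

end U34

end H83.GI
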